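import Cfsg.Agent.H182.LP.Base
import Cfsg.Agent.H237.AltCP

/-!
# Alternating groups of local characteristic `p`, `p` odd (helper182, S3046 piece X)

The centraliser of a `p`-cycle contains the alternating group on its fixed points.
-/

set_option autoImplicit false

namespace Cfsg.Agent.H182.LP

open Cfsg Subgroup Equiv Equiv.Perm
open Cfsg.Agent.H238 (Loc)

universe u

theorem exists_cycle {p n : ℕ} (hp : p.Prime) (hp2 : p ≠ 2) (hpn : p ≤ n) :
    ∃ g : ↥(alternatingGroup (Fin n)), orderOf g = p ∧
      Fintype.card {ω // (g : Perm (Fin n)) ω = ω} = n - p := by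
  obtain ⟨σ, hσ⟩ := (Equiv.Perm.exists_with_cycleType_iff (α := Fin n) (m := {p})).2
    ⟨by rw [Multiset.sum_singleton, Fintype.card_fin]; exact hpn, by
      intro a ha
      rw [Multiset.mem_singleton] at ha
      rw [ha]
      exact hp.two_le⟩
  have hsgn : Equiv.Perm.sign σ = 1 := by
    rw [Equiv.Perm.sign_of_cycleType, hσ, Multiset.sum_singleton, Multiset.card_singleton]
    exact Even.neg_one_pow (by
      obtain ⟨c, hc⟩ := hp.odd_of_ne_two hp2
      exact ⟨c + 1, by omega⟩)
  refine ⟨⟨σ, Equiv.Perm.mem_alternatingGroup.2 hsgn⟩, ?_, ?_⟩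
  · rw [Subgroup.orderOf_mk, ← Equiv.Perm.lcm_cycleType, hσ, Multiset.lcm_singleton, normalize_eq]
  · have h1 : σ.support.card = p := by rw [← Equiv.Perm.sum_cycleType, hσ, Multiset.sum_singleton]
    show Fintype.card {ω // σ ω = ω} = n - p
    rw [Fintype.card_subtype]
    have h2 : (Finset.univ.filter fun ω => σ ω = ω) = σ.supportᶜ := by
      ext ω
      simp [Equiv.Perm.mem_support]
    rw [h2, Finset.card_compl, Fintype.card_fin, h1]

theorem sq_dvd_factorial {p n : ℕ} (hp : p.Prime) (h : p ^ 2 ∣ n.factorial) : 2 * p ≤ n := by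
  by_contra hlt
  push Not at hlt
  have h1 := (hp.pow_dvd_factorial_iff (b := n + 1) (n := n) (r := 2) ?_).1 h
  · have h2 : ∑ i ∈ Finset.Ico 1 (n + 1), n / p ^ i ≤ 1 := by
      rcases Nat.eq_zero_or_pos n with rfl | hn
      · simp
      have h3 : ∑ i ∈ Finset.Ico 1 (n + 1), n / p ^ i = n / p := by
        rw [Finset.sum_eq_single 1]
        · rw [pow_one]
        · intro i hi hi1
          rw [Finset.mem_Ico] at hi
          apply Nat.div_eq_of_lt
          calc n < 2 * p := hlt
            _ ≤ p * p := Nat.mul_le_mul_right p hp.two_le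
            _ = p ^ 2 := (pow_two p).symm
            _ ≤ p ^ i := Nat.pow_le_pow_right hp.pos (by omega)
        · intro h4
          exact absurd (Finset.mem_Ico.2 ⟨le_rfl, by omega⟩) h4
      rw [h3]
      have := (Nat.div_lt_iff_lt_mul hp.pos).2 hlt
      omega
    omega
  · exact (Nat.log_lt_of_lt_pow (by
      rintro rfl
      rw [Nat.factorial_zero] at h
      have := Nat.le_of_dvd one_pos h
      nlinarith [hp.two_le]) (Nat.lt_pow_self hp.one_lt)).trans (Nat.lt_succ_self n)

/-- **Alternating groups are not of local characteristic `p`.** -/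
theorem not_loc_alt {K : Type u} [Group K] [Finite K] {p n : ℕ} [hp : Fact p.Prime] (hp2 : p ≠ 2)
    (e : K ≃* ↥(alternatingGroup (Fin n))) (h4 : p ^ 4 ∣ Nat.card K) : ¬ Loc p K := by
  intro hl
  have hcard : Nat.card K ∣ n.factorial := by
    rw [Nat.card_congr e.toEquiv]
    have := card_subgroup_dvd_card (alternatingGroup (Fin n))
    rwa [Nat.card_perm, Nat.card_fin] at this
  have h4' : p ^ 4 ∣ n.factorial := h4.trans hcard
  have h2 := sq_dvd_factorial hp.out ((pow_dvd_pow p (by norm_num)).trans h4')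
  have hp3 : 3 ≤ p := by
    have := hp.out.two_le
    omega
  obtain ⟨g, hg, hfix⟩ := exists_cycle hp.out hp2 (show p ≤ n by omega)
  have h5 := H237.AltCP.cp_cent ((hl.congr e) g hg)
  rw [hfix] at h5
  rcases h5 with h5 | ⟨h5, rfl⟩ | ⟨-, h5⟩
  · omega
  · obtain rfl : n = 6 := by omega
    revert h4'
    decide
  · exact hp2 h5

end Cfsg.Agent.H182.LP
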