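import Cfsg.Agent.H238.LocTwo

/-!
# An element of order 5 of `E₈(q)`, `q` even, commuting with `SL₃(2)` (helper182, piece (X) of S3046)

`Twelve e` : the relations of the elementary transvections of `SL₄(2)`; after `H238.Six`.
-/

set_option autoImplicit false
set_option linter.unusedSectionVars false

namespace Cfsg.Agent.H182.LP

open scoped commutatorElement
open Matrix Cfsg.Agent.AGraded Cfsg.Agent.CTFrame.Weyl Cfsg.Agent.CTFrame.Torus
open Cfsg Cfsg.Lie Cfsg.Lie.ChevalleyDatum
open Cfsg.Agent.H238 (zmod_two grp6 gen6 mem_grp6)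
open Cfsg.Agent.H238.LocTwo

universe u

/-- the relations of `SL₄(2)` -/
structure Twelve {G : Type u} [Group G] (e : Fin 4 → Fin 4 → G) : Prop where
  sq : ∀ i j, i ≠ j → e i j * e i j = 1
  comm : ∀ i j k l, i ≠ j → k ≠ l → j ≠ k → i ≠ l → e i j * e k l = e k l * e i j
  br : ∀ i j k, i ≠ j → j ≠ k → i ≠ k → ⁅e i j, e j k⁆ = e i k

/-- the family over `ZMod 2` -/
def fam4 {G : Type u} [Group G] (e : Fin 4 → Fin 4 → G) (i j : Fin 4) (a : ZMod 2) : G := if a = 0 then 1 else e i j

section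

variable {G : Type u} [Group G] {e : Fin 4 → Fin 4 → G}

theorem fam4_zero (i j : Fin 4) : fam4 e i j 0 = 1 := if_pos rfl
theorem fam4_one (i j : Fin 4) : fam4 e i j 1 = e i j := if_neg (by decide)

theorem Twelve.stein (h : Twelve e) : SteinRel (fam4 e) where
  add := by
    intro i j hij a b
    rcases zmod_two a with rfl | rfl <;> rcases zmod_two b with rfl | rfl
    · rw [add_zero, fam4_zero, one_mul]
    · rw [zero_add, fam4_zero, one_mul]
    · rw [add_zero, fam4_zero, mul_one]
    · rw [show (1 : ZMod 2) + 1 = 0 from by decide, fam4_zero, fam4_one, h.sq i j hij]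
  comm := by
    intro i j k l hij hkl hjk hil a b
    rcases zmod_two a with rfl | rfl <;> rcases zmod_two b with rfl | rfl
    · rw [fam4_zero, fam4_zero]
    · rw [fam4_zero, one_mul, mul_one]
    · rw [fam4_zero, one_mul, mul_one]
    · rw [fam4_one, fam4_one, h.comm i j k l hij hkl hjk hil]
  br := by
    intro i j k hij hjk hik a b
    rcases zmod_two a with rfl | rfl <;> rcases zmod_two b with rfl | rfl
    · rw [zero_mul, fam4_zero, fam4_zero, fam4_zero, commutatorElement_one_left]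
    · rw [zero_mul, fam4_zero, fam4_zero, commutatorElement_one_left]
    · rw [mul_zero, fam4_zero, fam4_zero, commutatorElement_one_right]
    · rw [one_mul, fam4_one, fam4_one, fam4_one, h.br i j k hij hjk hik]

theorem Twelve.hrel (h : Twelve e) : HRel (fam4 e) := by
  intro i j hij a b ha hb
  rcases zmod_two a with rfl | rfl
  · exact absurd rfl ha
  rcases zmod_two b with rfl | rfl
  · exact absurd rfl hb
  have h1 : t (fam4 e) i j 1 = 1 := by
    unfold t w
    have e1 : (-1 : ZMod 2) = 1 := by decide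
    rw [e1, inv_one, e1, fam4_one, fam4_one]
    calc e i j * e j i * e i j * (e i j * e j i * e i j) = e i j * (e j i * (e i j * e i j) * e j i) * e i j := by group
      _ = 1 := by rw [h.sq i j hij, mul_one, h.sq j i hij.symm, mul_one, h.sq i j hij]
  rw [one_mul, h1, one_mul]

/-- the group generated -/
def grp12 (e : Fin 4 → Fin 4 → G) : Subgroup G := Subgroup.closure {g | ∃ i j, i ≠ j ∧ g = e i j}

theorem mem_grp12 (e : Fin 4 → Fin 4 → G) {i j : Fin 4} (hij : i ≠ j) : e i j ∈ grp12 e :=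
  Subgroup.subset_closure ⟨i, j, hij, rfl⟩

/-- an element of order 5 of `SL₄(2)` -/
def g5 : SpecialLinearGroup (Fin 4) (ZMod 2) := ⟨!![0,0,0,1;1,0,0,1;0,1,0,1;0,0,1,1], by decide⟩

/-- a transvection -/
def t5 : SpecialLinearGroup (Fin 4) (ZMod 2) := ⟨!![1,1,0,0;0,1,0,0;0,0,1,0;0,0,0,1], by decide⟩

theorem g5_pow : g5 ^ 5 = 1 := by decide +kernel

theorem g5_not_mem : g5 ∉ Subgroup.center (SpecialLinearGroup (Fin 4) (ZMod 2)) := by
  intro h
  have := (Subgroup.mem_center_iff.1 h) t5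
  revert this
  decide +kernel

/-- an element of order 5 -/
theorem Twelve.exists_elt (h : Twelve e) {i j : Fin 4} (hij : i ≠ j) (hne : e i j ≠ 1) :
    ∃ x ∈ grp12 e, x ^ 5 = 1 ∧ x ≠ 1 := by
  obtain ⟨π, -, h2, h3⟩ := Cfsg.Agent.CTFrame.Hom.exists_hom h.stein h.hrel (by simp)
  have h4 := h3 ⟨i, j, hij, 1, by rwa [fam4_one]⟩
  have h5 : π.range ≤ grp12 e := by
    rw [h2, Subgroup.closure_le]
    rintro _ ⟨a, b, hab, c, rfl⟩
    rcases zmod_two c with rfl | rfl
    · rw [fam4_zero]; exact one_mem _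
    · rw [fam4_one]; exact mem_grp12 e hab
  exact ⟨π g5, h5 ⟨_, rfl⟩, by rw [← map_pow, g5_pow, map_one], fun h6 => g5_not_mem (h4 h6)⟩

end

/-- the check for a twelve-tuple -/
def okTwelve (D : ChevalleyDatum) (A : Fin 4 → Fin 4 → ℕ) : Bool :=
  decide ((∀ i j k l : Fin 4, i ≠ j → k ≠ l → j ≠ k → i ≠ l → okC D (A i j) (A k l) = true) ∧
    (∀ i j k : Fin 4, i ≠ j → j ≠ k → i ≠ k → okB D (A j k) (A i j) (A i k) = true))

theorem twelve {D : ChevalleyDatum} (hD : Cfsg.Agent.ChevalleyStructure.Elts.InList D) (F : Type u) [Field F] [CharP F 2]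
    {A : Fin 4 → Fin 4 → ℕ} (h : okTwelve D A = true) : Twelve fun i j => el hD F (A i j) := by
  unfold okTwelve at h
  rw [decide_eq_true_eq] at h
  exact ⟨fun i j _ => el_sq hD F _, fun i j k l h1 h2 h3 h4 => el_comm hD F (h.1 i j k l h1 h2 h3 h4),
    fun i j k h1 h2 h3 => el_br hD F (h.2 i j k h1 h2 h3)⟩

/-- the roots of the system `A₃` -/
def tabA : Fin 4 → Fin 4 → ℕ
  | 0, 1 => 162
  | 0, 2 => 163
  | 0, 3 => 164
  | 1, 0 => 77
  | 1, 2 => 135
  | 1, 3 => 136
  | 2, 0 => 76
  | 2, 1 => 104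
  | 2, 3 => 130
  | 3, 0 => 75
  | 3, 1 => 103
  | 3, 2 => 109
  | _, _ => 0

/-- **`E₈(q)`, `q` even: an element of order 5 commutes with a perfect subgroup.** -/
theorem has_e8_five (F : Type u) [Field F] [CharP F 2] : Has 5 ↥(chevE8.group F) := by
  have hD : Cfsg.Agent.ChevalleyStructure.Elts.InList chevE8 := by simp
  have hA : okTwelve chevE8 tabA = true := by decide +kernel
  have hB : okSix chevE8 (tab 123 121 124 116 118 115) = true := by decide +kernel
  have hC : ∀ (i j : Fin 4) (k l : Fin 3), i ≠ j → k ≠ l →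
      okC chevE8 (tabA i j) (tab 123 121 124 116 118 115 k l) = true := by decide +kernel
  obtain ⟨x, hx, hx1, hx2⟩ := (twelve hD F hA).exists_elt (i := 0) (j := 1) (by decide)
    (el_ne hD F (r := tabA 0 1) (by decide +kernel))
  refine ⟨x, grp6 fun i j => el hD F (tab 123 121 124 116 118 115 i j), hx1, hx2, ?_, (six hD F hB).perfect,
    grp6_ne (el_ne hD F (r := tab 123 121 124 116 118 115 0 1) (by decide +kernel))⟩
  have h1 : (grp12 fun i j => el hD F (tabA i j)) ≤
      Subgroup.centralizer (gen6 fun i j => el hD F (tab 123 121 124 116 118 115 i j)) := by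
    rw [grp12, Subgroup.closure_le]
    rintro _ ⟨i, j, hij, rfl⟩
    rw [SetLike.mem_coe, Subgroup.mem_centralizer_iff]
    rintro _ ⟨k, l, hkl, rfl⟩
    exact (el_comm hD F (hC i j k l hij hkl)).symm
  rw [grp6, Subgroup.closure_le]
  intro b hb
  rw [SetLike.mem_coe, Subgroup.mem_centralizer_singleton_iff]
  exact (Subgroup.mem_centralizer_iff.1 (h1 hx)) b hb

end Cfsg.Agent.H182.LP
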