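import Cfsg.Agent.H182.LP.Core
import Cfsg.Agent.H240.SuzRee

/-!
# Suzuki and Ree groups of local characteristic `p`, `p` odd (helper182, piece (X) of S3046)
-/

set_option autoImplicit false
set_option linter.unusedSectionVars false

namespace Cfsg.Agent.H182.LP

open Subgroup Cfsg Cfsg.Agent.KFacts.TwF4 Cfsg.Agent.KFacts.TwF4.Arc Cfsg.Agent.KFacts.TwF4.Perf
open Cfsg.Agent.H42.Tw Cfsg.Agent.SplitTwo.ZS
open Cfsg.Agent.H238 (Loc)
open Cfsg.Agent.H240.SuzRee

universe u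

/-- **`²F₄(q)` is not of local characteristic 3** -/
theorem not_loc_two_f4 {K : Type u} [Group K] [Finite K] (hK : Lie.Iso2F4 K) : ¬ Loc 3 K := by
  intro hl
  have h3 : Fact (Nat.Prime 3) := ⟨Nat.prime_three⟩
  have hsp := H979.LieSplit.hasSplit_of_iso2F4 hK
  obtain ⟨F, _, _, m, φ, S, hm, hF, ⟨e⟩, hR, hfin, hu⟩ := H187.exists_full hK
  have hz : orderOf (S.o 0 1 * S.o 4 1) = 3 := orderOf_eq_prime (a_pow S) (a_ne S)
  have hz' : orderOf (e.symm (S.o 0 1 * S.o 4 1)) = 3 :=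
    (orderOf_injective e.symm.toMonoidHom e.symm.injective _).trans hz
  have hs : Group.IsSolvable ↥(centralizer ({e.symm (S.o 0 1 * S.o 4 1)} : Set K)) :=
    H238.isSolvable_of_two (fun X _ _ h => Cfsg.Agent.S0205.result h) (by norm_num) hsp hz' (hl _ hz')
  refine B_not_solvable S hu ?_
  have hmn : (S.o 0 1) ∈ (S.XZ 1 ⊔ S.XZ (1 + 8) : Subgroup _) := mem_sup_left ((mem_X1 S).2 ⟨1, rfl⟩)
  have hmn' : (S.o 4 1) ∈ (S.XZ 1 ⊔ S.XZ (1 + 8) : Subgroup _) := mem_sup_right ((mem_X9 S).2 ⟨1, rfl⟩)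
  have h1 : (S.XZ (1 + 4) ⊔ S.XZ (1 + 4 + 8) : Subgroup _).map e.symm.toMonoidHom ≤
      centralizer ({e.symm (S.o 0 1 * S.o 4 1)} : Set K) := by
    rintro _ ⟨w, hw, rfl⟩
    refine mem_centralizer_singleton_iff.2 ?_
    show e.symm w * e.symm _ = e.symm _ * e.symm w
    rw [← map_mul, ← map_mul]
    congr 1
    exact (comm_LM S (mul_mem hmn hmn') hw).symm
  have h2 := isSolvable_le h1 hs
  have e' := (S.XZ (1 + 4) ⊔ S.XZ (1 + 4 + 8) : Subgroup _).equivMapOfInjective e.symm.toMonoidHom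
    e.symm.injective
  exact Group.isSolvable_of_isSolvable_injective (f := e'.toMonoidHom) e'.injective

/-- **Suzuki and Ree groups.** -/
theorem suz_ree {K : Type u} [Group K] [Finite K] {p r : ℕ} [hp : Fact p.Prime] (hpr : p ≠ r) (hp2 : p ≠ 2)
    (hK : (r = 2 ∧ Lie.IsoSuzuki K) ∨ (r = 2 ∧ Lie.Iso2F4 K) ∨ (r = 3 ∧ Lie.IsoRee K)) (hl : Loc p K) {S : Sylow p K}
    (hna : ¬ IsMulCommutative (S : Subgroup K)) : False := by
  rcases hK with ⟨-, hsz⟩ | ⟨-, hF4⟩ | ⟨rfl, F, _, _, m, hm, hF, ⟨e⟩⟩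
  · have hcyc : IsCyclic (S : Subgroup K) := Cfsg.Agent.OddRank.SzTits.isCyclic_of_isPGroup hsz hp2 _ S.isPGroup'
    obtain ⟨g, hg⟩ := hcyc.exists_generator
    refine hna ⟨⟨fun x y => ?_⟩⟩
    obtain ⟨i, hi⟩ := hg x
    obtain ⟨j, hj⟩ := hg y
    rw [← hi, ← hj]
    exact ((Commute.refl g).zpow_zpow i j).eq
  · by_cases hp3 : p = 3
    · subst hp3
      exact not_loc_two_f4 hF4 hl
    · have h5 : 5 ≤ p := by
        have := hp.out.two_le
        have h4 : p ≠ 4 := by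
          rintro rfl
          exact absurd hp.out (by norm_num)
        omega
      exact hna (abelian_of_iso2F4 hF4 h5 S.isPGroup')
  · obtain ⟨x, y, z, hz, hxz, hyz, hxy⟩ := exists_triple hna
    have h1 : orderOf (e z) = p := by
      rw [← hz]
      exact orderOf_injective e.toMonoidHom e.injective z
    have h3 : 3 < p := by
      have := hp.out.two_le
      omega
    have h2 := Cfsg.Agent.H795.comm_of (ree_cent hm hF h3 h1)
      (mem_centralizer_singleton_iff.2 (show e x * e z = e z * e x by rw [← map_mul, hxz, map_mul]))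
      (mem_centralizer_singleton_iff.2 (show e y * e z = e z * e y by rw [← map_mul, hyz, map_mul]))
    rw [← map_mul, ← map_mul] at h2
    exact hxy (e.injective h2)

end Cfsg.Agent.H182.LP
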