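import Cfsg.Agent.H238.LocTwo
import Cfsg.Agent.H240.TwD4Z
import Cfsg.Agent.ChevalleyStructure.D4Perfect

/-!
# An element of order 3 of `³D₄(q)`, `q` even, commuting with `SL₂(q³)` (helper182, piece (X) of S3046)
-/

set_option autoImplicit false
set_option linter.unusedSectionVars false

namespace Cfsg.Agent.H182.LP.TwD4

open Subgroup Cfsg Cfsg.Lie Cfsg.Agent.ChevalleyStructure Cfsg.Agent.ChevalleyStructure.D4Comm
open Cfsg.Agent.ChevalleyStructure.D4U Cfsg.Agent.ChevalleyStructure.D4NConj Cfsg.Agent.ChevalleyStructure.D4Perfect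
open Cfsg.Lie
open Cfsg.Agent.ChevalleyStructure.D4Comm Cfsg.Agent.ChevalleyStructure.D4NCheck
open Cfsg.Agent.ChevalleyStructure.D4NConj Cfsg.Agent.ChevalleyStructure.D4RGD
open Cfsg.Agent.ChevalleyStructure.D4Perm Cfsg.Agent.ChevalleyStructure.D4TwN
open Cfsg.Agent.ChevalleyStructure.D4Cols Cfsg.Agent.ChevalleyStructure.D4Fixed
open Cfsg.Agent.ChevalleyStructure.D4HConj
open scoped commutatorElement
open Cfsg.Agent.OddTab.D4Short (psi psi_up psi_lo psi_mem comm_x)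
open Cfsg.Agent.Nodes.RGDTwD4 (xG_eq)
open Cfsg.Agent.Hexagon.TwD4Rel
open Cfsg.Agent.H238.LocTwo

/-- the elements `x₀(t)` commute with the short root `SL₂(K)` -/
theorem comm_psi {K : Type} [Field K] (φ : K →+* K) (t : K) (g : Matrix.SpecialLinearGroup (Fin 2) K) :
    xG 0 t * psi φ g = psi φ g * xG 0 t := by
  have hc : ∀ r : ℕ, r < 24 → 0 ≠ r → 0 ≠ chevD4.neg r → chevD4.commTerms r 0 = [] → ∀ u : K,
      xG 0 t * xG r u = xG r u * xG 0 t := by
    intro r hr h1 h2 h4 u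
    have := comm_x (K := K) hr (by norm_num) h1 h2 h4 u t
    rw [xG_eq] at this
    exact this
  have h1 : ∀ r ∈ [18, 13, 12, 5, 10, 11], ∀ u : K, xG 0 t * xG r u = xG r u * xG 0 t := by
    intro r hr u
    have htab : ∀ r ∈ [18, 13, 12, 5, 10, 11], r < 24 ∧ 0 ≠ r ∧ 0 ≠ chevD4.neg r ∧ chevD4.commTerms r 0 = [] := by
      decide +kernel
    obtain ⟨k1, k2, k3, k4⟩ := htab r hr
    exact hc r k1 k2 k3 k4 u
  refine Cfsg.Agent.OddHalf.LongSL.commute_range (psi φ) (fun u => ?_) (fun u => ?_) _ ⟨g, rfl⟩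
  · rw [psi_up, D4Fixed.X, D4U.xU_eq, D4U.xU_eq, D4U.xU_eq]
    have a1 := h1 18 (by simp) u
    have a2 := h1 13 (by simp) (φ u)
    have a3 := h1 12 (by simp) (φ (φ u))
    calc xG 0 t * (xG 18 u * xG 13 (φ u) * xG 12 (φ (φ u))) =
        (xG 0 t * xG 18 u) * xG 13 (φ u) * xG 12 (φ (φ u)) := by group
      _ = xG 18 u * (xG 0 t * xG 13 (φ u)) * xG 12 (φ (φ u)) := by rw [a1]; group
      _ = xG 18 u * xG 13 (φ u) * (xG 0 t * xG 12 (φ (φ u))) := by rw [a2]; group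
      _ = _ := by rw [a3]; group
  · rw [psi_lo, D4Fixed.Y, D4U.xU_eq, D4U.xU_eq, D4U.xU_eq]
    have a1 := h1 5 (by simp) u
    have a2 := h1 10 (by simp) (φ u)
    have a3 := h1 11 (by simp) (φ (φ u))
    calc xG 0 t * (xG 5 u * xG 10 (φ u) * xG 11 (φ (φ u))) =
        (xG 0 t * xG 5 u) * xG 10 (φ u) * xG 11 (φ (φ u)) := by group
      _ = xG 5 u * (xG 0 t * xG 10 (φ u)) * xG 11 (φ (φ u)) := by rw [a1]; group
      _ = xG 5 u * xG 10 (φ u) * (xG 0 t * xG 11 (φ (φ u))) := by rw [a2]; group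
      _ = _ := by rw [a3]; group

variable {K : Type} [Field K] {φ : K →+* K} {q : ℕ}

theorem nA_conj_9 (K : Type*) [Field K] : ∃ ε : K, (ε = 1 ∨ ε = -1) ∧
    ∀ v : K, nA K * xG 9 v * (nA K)⁻¹ = xG 1 (ε * v) := by
  obtain ⟨a, ha, h1⟩ := nG_conj' K (i := 3) (s := 9) (by norm_num) (by norm_num)
  obtain ⟨b, hb, h2⟩ := nG_conj' K (i := 2) (s := rfl' 3 9) (by norm_num) (rfl'_lt (by norm_num) (by norm_num))
  obtain ⟨c, hc, h3⟩ := nG_conj' K (i := 0) (s := rfl' 2 (rfl' 3 9)) (by norm_num)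
    (rfl'_lt (by norm_num) (rfl'_lt (by norm_num) (by norm_num)))
  refine ⟨c * (b * a), sign_mul hc (sign_mul hb ha), fun v => ?_⟩
  have e : nA K * xG 9 v * (nA K)⁻¹ =
      nG K 0 * (nG K 2 * (nG K 3 * xG 9 v * (nG K 3)⁻¹) * (nG K 2)⁻¹) * (nG K 0)⁻¹ := by
    rw [nA_def]; group
  rw [e, h1, h2, h3]
  have e2 : rfl' 0 (rfl' 2 (rfl' 3 9)) = 1 := by decide +kernel
  rw [e2, mul_assoc, mul_assoc]

theorem nB_conj_1 (K : Type*) [Field K] : ∃ ε : K, (ε = 1 ∨ ε = -1) ∧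
    ∀ v : K, nB K * xG 1 v * (nB K)⁻¹ = xG 0 (ε * v) := by
  obtain ⟨a, ha, h1⟩ := nG_conj' K (i := 1) (s := 1) (by norm_num) (by norm_num)
  refine ⟨a, ha, fun v => ?_⟩
  have e2 : rfl' 1 1 = 0 := by decide +kernel
  rw [nB_def, h1, e2]

theorem x0_mem (hφ : ∀ x, φ x = x ^ q) {v : K} (hv : φ v = v) : xG 0 v ∈ twistedD4 K q := by
  obtain ⟨ε, hε, h⟩ := nA_conj_9 K
  obtain ⟨ε', hε', h'⟩ := nB_conj_1 K
  have h1 := mul_mem (mul_mem (nA_mem_twisted hφ) (C_le (x9_mem_C hφ (phi_sign hε (phi_sign hε' hv)))))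
    (inv_mem (nA_mem_twisted hφ))
  rw [h, sign_mul_self hε] at h1
  have h2 := mul_mem (mul_mem (nB_mem_twisted hφ) h1) (inv_mem (nB_mem_twisted hφ))
  rwa [h', sign_mul_self hε'] at h2

theorem hD : Elts.InList chevD4 := by simp

/-- **`³D₄(q)`, `q` even.** -/
theorem has_twD4 [Fintype K] [CharP K 2] (hq : IsPrimePow q) (hK : Fintype.card K = q ^ 3) :
    Has 3 ↥(twistedD4 K q) := by
  obtain ⟨φ, hφ⟩ := D4Fixed.exists_frob hq hK
  have hq1 := hq.one_lt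
  have e23 : (el hD K 23 : GL chevD4.Idx K) = xG 23 1 := congrFun (congrFun xG_eq 23) 1
  have e0 : (el hD K 0 : GL chevD4.Idx K) = xG 0 1 := congrFun (congrFun xG_eq 0) 1
  have hx3 : (el hD K 23 * el hD K 0) ^ 3 = 1 := el_three hD K (r := 23) (by decide +kernel)
  have hx1 : el hD K 23 * el hD K 0 ≠ 1 :=
    el_mul_ne hD K (r := 23) (s := 1) (v := 14) (by decide +kernel) (by decide +kernel) (by decide +kernel)
  refine has_of_le (x := xG 23 1 * xG 0 1) (M := (psi φ).range) ?_ ?_ ?_ ?_ ?_ ?_ ?_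
  · exact mul_mem (C_le (x23_mem_C hφ (map_one φ))) (x0_mem hφ (map_one φ))
  · rintro _ ⟨g, rfl⟩
    exact psi_mem φ hφ g
  · have := congrArg Subtype.val hx3
    rw [← e23, ← e0]
    exact this
  · intro h
    apply hx1
    rw [← e23, ← e0] at h
    exact Subtype.ext h
  · rintro _ ⟨g, rfl⟩
    have h1 := H240.TwD4Z.comm_psi φ 1 g
    have h2 := comm_psi φ 1 g
    calc psi φ g * (xG 23 1 * xG 0 1) = (psi φ g * xG 23 1) * xG 0 1 := by group
      _ = xG 23 1 * (psi φ g * xG 0 1) := by rw [← h1]; group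
      _ = _ := by rw [← h2]; group
  · have h4 : 4 ≤ Nat.card K := by
      rw [Nat.card_eq_fintype_card, hK]
      calc 4 ≤ 2 ^ 3 := by norm_num
        _ ≤ q ^ 3 := Nat.pow_le_pow_left hq1 3
    have hperf := (Cfsg.Agent.SignalizersComponents.SLQuasisimple.isQuasisimple_two (F := K) h4).1
    have h1 : commutator (Matrix.SpecialLinearGroup (Fin 2) K) = ⊤ := hperf.commutator_eq_top
    rw [MonoidHom.range_eq_map, ← Subgroup.map_commutator, ← commutator_def, h1]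
  · intro h
    have h1 : psi φ (SL2Hom.up 1) ∈ (psi φ).range := ⟨_, rfl⟩
    rw [h, Subgroup.mem_bot, psi_up] at h1
    let σ : K ≃+* K := RingEquiv.ofBijective φ ⟨φ.injective, Finite.surjective_of_injective φ.injective⟩
    rw [← Hexagon.TwD4Par.X1_eq σ φ (fun _ => rfl)] at h1
    have h6 := H240.HexZ.z1 (hexRel (σ := σ) (phi3 hK hφ))
    exact one_ne_zero (Hexagon.TwD4Par.X1_inj σ (h1.trans h6.symm))

end Cfsg.Agent.H182.LP.TwD4
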