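import Cfsg.Agent.H182.LP.Core
import Cfsg.Agent.H182.LP.SuzRee
import Cfsg.Agent.H182.LP.EightFive
import Cfsg.Agent.H182.LP.TwD4
import Cfsg.Agent.H226.KLevel
import Cfsg.Agent.S1062
import Cfsg.Agent.S1063
import Cfsg.Agent.S1064
import Cfsg.Agent.S1065
import Cfsg.Agent.S1066
import Cfsg.Agent.S1067

/-!
# Exceptional groups of local characteristic `p`, `p` odd (helper182, piece (X) of S3046)

`exc` : an exceptional group of characteristic `r ≠ p` with a non-abelian Sylow `p`-subgroup and `p ^ 4` dividing the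
order is not of local characteristic `p`.
-/

set_option autoImplicit false
set_option maxRecDepth 100000

namespace Cfsg.Agent.H182.LP

open Cfsg Cfsg.Lie Subgroup
open Cfsg.Agent.H238 (Loc)
open Cfsg.Agent.H238.LocTwo
open Cfsg.Agent.BpExc.RowsUntw Cfsg.Agent.BpExc

universe u

theorem prime_mem {p : ℕ} (hp : p.Prime) : ∀ l : List ℕ, (∀ q ∈ l, q.Prime) → p ∣ l.prod → p ∈ l
  | [], _, h => by
    rw [List.prod_nil, Nat.dvd_one] at h
    exact absurd h hp.one_lt.ne'
  | a :: l, hl, h => by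
    rw [List.prod_cons] at h
    rcases hp.dvd_mul.1 h with h1 | h1
    · rw [(Nat.prime_dvd_prime_iff_eq hp (hl a List.mem_cons_self)).1 h1]
      exact List.mem_cons_self
    · exact List.mem_cons_of_mem _ (prime_mem hp l (fun q hq => hl q (List.mem_cons_of_mem _ hq)) h1)

theorem four_cases {p : ℕ} (hp : p.Prime) (hp2 : p ≠ 2) {n : ℕ} (l : List ℕ) (hl : ∀ q ∈ l, q.Prime) (N : ℕ)
    (hn : n ∣ l.prod ^ N) (h4 : p ^ 4 ∣ n) (l' : List ℕ)
    (hf : l.filter (fun q => decide (q ≠ 2) && decide (q ^ 4 ∣ n)) = l') : p ∈ l' := by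
  have h1 : p ∈ l := prime_mem hp l hl (hp.dvd_of_dvd_pow (((dvd_pow_self p (by norm_num)).trans h4).trans hn))
  rw [← hf, List.mem_filter]
  exact ⟨h1, by simp [hp2, h4]⟩

/-- an element of order `p` commuting with a perfect group, characteristic two -/
theorem not_loc_of_has {K : Type u} [Group K] [Finite K] {K₀ : Type} [Group K₀] (e : K ≃* K₀)
    (hs : FixBN.HasSplit 2 K₀) {p : ℕ} [hp : Fact p.Prime] (hp2 : p ≠ 2) (h : Has p K₀) : ¬ Loc p K := by
  intro hl
  have hfin : Finite K₀ := Finite.of_equiv K e.toEquiv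
  obtain ⟨x, M, h1, h2, h3, h4, h5⟩ := h
  have hx : orderOf x = p := orderOf_eq_prime h1 h2
  have hsol : Group.IsSolvable ↥(centralizer ({x} : Set K₀)) :=
    H238.isSolvable_of_two (fun X _ _ h => Cfsg.Agent.S0205.result h) hp2 hs hx (hl.congr e x hx)
  have : Group.IsSolvable ↥M := Group.isSolvable_of_isSolvable_injective (Subgroup.inclusion_injective h3)
  exact h5 (H238.eq_bot_of_perfect_of_isSolvable h4 this)

theorem charP_two_of_card {F : Type} [Field F] [Fintype F] {n : ℕ} (hn : n ≠ 0) (h : Fintype.card F = 2 ^ n) :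
    CharP F 2 := by
  obtain ⟨p, hF⟩ := CharP.exists F
  have hp := CharP.char_is_prime F p
  obtain ⟨m, -, hm⟩ := FiniteField.card F p
  rw [h] at hm
  have h1 : 2 ∣ p ^ (m : ℕ) := by rw [← hm]; exact dvd_pow_self 2 hn
  have h2 := (Nat.prime_dvd_prime_iff_eq Nat.prime_two hp).1 (Nat.prime_two.dvd_of_dvd_pow h1)
  rw [h2]
  exact hF

variable {K : Type u} [Group K] [Finite K] {p : ℕ} [hp : Fact p.Prime]

theorem f4_two {F : Type} [Field F] [Fintype F] (hF : Fintype.card F = 2) (hp2 : p ≠ 2) (e : K ≃* chevF4.group F)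
    (h4 : p ^ 4 ∣ Nat.card K) : ¬ Loc p K := by
  have : CharP F 2 := charP_two_of_card (n := 1) one_ne_zero (by rw [hF, pow_one])
  rw [Nat.card_congr e.toEquiv, Cfsg.Agent.S1062.result hF] at h4
  have := four_cases hp.out hp2 [2, 3, 5, 7, 13, 17] (by decide) 24 (by norm_num) h4 [3] (by decide +kernel)
  simp only [List.mem_singleton] at this
  subst this
  exact not_loc_of_has e (RowsN.hasSplit f4T F (S1054.result chevF4 (by simp)).1) (by norm_num) (has_f4 F)

theorem e6_two {F : Type} [Field F] [Fintype F] (hF : Fintype.card F = 2) (hp2 : p ≠ 2) (e : K ≃* chevE6.group F)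
    (h4 : p ^ 4 ∣ Nat.card K) : ¬ Loc p K := by
  have : CharP F 2 := charP_two_of_card (n := 1) one_ne_zero (by rw [hF, pow_one])
  have hc := Cfsg.Agent.S1063.result hF
  rw [Nat.card_congr e.toEquiv] at h4
  have h5 : Nat.card (chevE6.group F) ∣ Nat.gcd 3 (2 - 1) * Nat.card (chevE6.group F) := Dvd.intro_left _ rfl
  rw [hc] at h5
  have := four_cases hp.out hp2 [2, 3, 5, 7, 13, 17, 31, 73] (by decide) 36 (by norm_num) (h4.trans h5) [3]
    (by decide +kernel)
  simp only [List.mem_singleton] at this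
  subst this
  exact not_loc_of_has e (RowsN.hasSplit e6T F (S1054.result chevE6 (by simp)).1) (by norm_num) (has_e6 F).1

theorem e7_two {F : Type} [Field F] [Fintype F] (hF : Fintype.card F = 2) (hp2 : p ≠ 2) (e : K ≃* chevE7.group F)
    (h4 : p ^ 4 ∣ Nat.card K) : ¬ Loc p K := by
  have : CharP F 2 := charP_two_of_card (n := 1) one_ne_zero (by rw [hF, pow_one])
  have hc := Cfsg.Agent.S1064.result hF
  rw [Nat.card_congr e.toEquiv] at h4
  have h5 : Nat.card (chevE7.group F) ∣ Nat.gcd 2 (2 - 1) * Nat.card (chevE7.group F) := Dvd.intro_left _ rfl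
  rw [hc] at h5
  have := four_cases hp.out hp2 [2, 3, 5, 7, 11, 13, 17, 19, 31, 43, 73, 127] (by decide) 63 (by norm_num)
    (h4.trans h5) [3] (by decide +kernel)
  simp only [List.mem_singleton] at this
  subst this
  exact not_loc_of_has e (RowsN.hasSplit e7T F (S1054.result chevE7 (by simp)).1) (by norm_num) (has_e7 F).1

theorem e8_two {F : Type} [Field F] [Fintype F] (hF : Fintype.card F = 2) (hp2 : p ≠ 2) (e : K ≃* chevE8.group F)
    (h4 : p ^ 4 ∣ Nat.card K) : ¬ Loc p K := by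
  have : CharP F 2 := charP_two_of_card (n := 1) one_ne_zero (by rw [hF, pow_one])
  rw [Nat.card_congr e.toEquiv, Cfsg.Agent.S1065.result hF] at h4
  have := four_cases hp.out hp2 [2, 3, 5, 7, 11, 13, 17, 19, 31, 41, 43, 73, 127, 151, 241, 331] (by decide +kernel) 120
    (by norm_num) h4 [3, 5, 7] (by decide +kernel)
  simp only [List.mem_cons, List.not_mem_nil, or_false] at this
  have hs := RowsN.hasSplit e8T F (r := 2) (S1054.result chevE8 (by simp)).1
  rcases this with rfl | rfl | rfl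
  · exact not_loc_of_has e hs (by norm_num) (has_e8 F).1
  · exact not_loc_of_has e hs (by norm_num) (has_e8_five F)
  · exact not_loc_of_has e hs (by norm_num) (has_e8 F).2

theorem twE6_two {F : Type} [Field F] [Fintype F] (hF : Fintype.card F = 2 ^ 2) (hp2 : p ≠ 2)
    (e : K ≃* twistedE6 F 2) (h4 : p ^ 4 ∣ Nat.card K) : ¬ Loc p K := by
  have : CharP F 2 := charP_two_of_card (n := 2) two_ne_zero hF
  have hq : IsPrimePow 2 := Nat.prime_two.isPrimePow
  have hc := Cfsg.Agent.S1066.result hq hF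
  rw [Nat.card_congr e.toEquiv] at h4
  have h5 : Nat.card (twistedE6 F 2) ∣ Nat.gcd 3 (2 + 1) * Nat.card (twistedE6 F 2) := Dvd.intro_left _ rfl
  rw [hc] at h5
  have := four_cases hp.out hp2 [2, 3, 5, 7, 11, 13, 17, 19] (by decide) 36 (by norm_num) (h4.trans h5) [3]
    (by decide +kernel)
  simp only [List.mem_singleton] at this
  subst this
  exact not_loc_of_has e (FixBN.ReeSplit.hasSplit_of_isTwistedE6D4Char ⟨F, inferInstance, inferInstance, inferInstance,
    2, hq, Or.inl ⟨hF, ⟨MulEquiv.refl _⟩⟩⟩) (by norm_num) (has_twE6 F)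

theorem twD4_two {F : Type} [Field F] [Fintype F] (hF : Fintype.card F = 2 ^ 3) (hp2 : p ≠ 2)
    (e : K ≃* twistedD4 F 2) (h4 : p ^ 4 ∣ Nat.card K) : ¬ Loc p K := by
  have : CharP F 2 := charP_two_of_card (n := 3) three_ne_zero hF
  have hq : IsPrimePow 2 := Nat.prime_two.isPrimePow
  rw [Nat.card_congr e.toEquiv, Cfsg.Agent.S1067.result hq hF] at h4
  have := four_cases hp.out hp2 [2, 3, 7, 13] (by decide) 12 (by norm_num) h4 [3]
    (by decide +kernel)
  simp only [List.mem_singleton] at this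
  subst this
  exact not_loc_of_has e (FixBN.ReeSplit.hasSplit_of_isTwistedE6D4Char ⟨F, inferInstance, inferInstance, inferInstance,
    2, hq, Or.inr ⟨hF, ⟨MulEquiv.refl _⟩⟩⟩) (by norm_num) (TwD4.has_twD4 hq hF)

/-- **Exceptional groups are not of local characteristic `p`.** -/
theorem exc {r : ℕ} (hr : r.Prime) (hp2 : p ≠ 2) (hpr : p ≠ r) (hK : H226.KLevel.IsExc r K) {S : Sylow p K}
    (hna : ¬ IsMulCommutative (S : Subgroup K)) (h4 : p ^ 4 ∣ Nat.card K) : ¬ Loc p K := by
  intro hl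
  have hK' : (IsExceptionalChevChar r K ∨ IsTwistedE6D4Char r K) ∨ ((r = 2 ∧ Lie.IsoSuzuki K) ∨ (r = 2 ∧ Lie.Iso2F4 K) ∨
      (r = 3 ∧ Lie.IsoRee K)) := by
    rcases hK with h | h | h
    · exact Or.inl (Or.inl h)
    · exact Or.inl (Or.inr h)
    · exact Or.inr h
  rcases hK' with h | h
  · obtain ⟨-, ⟨F, _, _, hF, h1⟩ | ⟨F, _, _, hF, ⟨e⟩⟩ | ⟨F, _, _, hF, ⟨e⟩⟩⟩ := exc_row hr h hp2 hpr hl hna
    · rcases h1 with ⟨⟨e⟩⟩ | ⟨⟨e⟩⟩ | ⟨⟨e⟩⟩ | ⟨⟨e⟩⟩
      · exact f4_two hF hp2 e h4 hl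
      · exact e6_two hF hp2 e h4 hl
      · exact e7_two hF hp2 e h4 hl
      · exact e8_two hF hp2 e h4 hl
    · exact twE6_two hF hp2 e h4 hl
    · exact twD4_two hF hp2 e h4 hl
  · have : Fact r.Prime := ⟨hr⟩
    exact suz_ree hpr hp2 h hl hna

end Cfsg.Agent.H182.LP
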