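import Cfsg.Agent.H238.Base
import Cfsg.Agent.H978.NB.LocDvd
import Cfsg.Agent.H978.NB.Syl

/-!
# Groups of local characteristic `p`, `p` odd: basic criteria (helper182, piece (X) of S3046)

`Loc p K` of `H238.Base`: `C_K(x)` has characteristic `p` for every `x` of order `p`.

* `exists_P` : the structure `H978.NB.Loc p y P`, `P = O_p(C(y))`;
* `no_commute` : commuting elements `y`, `z` of orders `p` and `r`, `r` not dividing `p ^ j - 1` for small `j`;
* `no_order` : the same from an element of order `p * r`;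
* `no_simple` : a simple group in `C(y)`;
* `no_nine` : `p = 3` and an element of order 9.
-/

set_option autoImplicit false
set_option linter.unusedSectionVars false

namespace Cfsg.Agent.H182.LP

open Subgroup Cfsg
open Cfsg.Agent.H239.CharPLocal (CP)

variable {p : ℕ} [hp : Fact p.Prime]

theorem exists_P {S : Type*} [Group S] [Finite S] (hl : H238.Loc p S) {y : S} (hy : orderOf y = p) :
    ∃ P : Subgroup S, H978.NB.Loc p y P := by
  have h0 := hl y hy
  set C := centralizer ({y} : Set S) with hCdef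
  have hN := Cfsg.Agent.Lib.Cores.pCore_normal (G := C) p
  have hP : IsPGroup p (pCore p C) := Cfsg.Agent.Lib.Cores.pCore_isPGroup p
  have hyC : y ∈ C := mem_centralizer_singleton_iff.2 rfl
  have hyP : (⟨y, hyC⟩ : C) ∈ pCore p C := by
    apply h0
    rw [mem_centralizer_iff]
    intro x _
    exact Subtype.ext (mem_centralizer_singleton_iff.1 x.2)
  refine ⟨(pCore p C).map C.subtype, map_subtype_le _, hP.map _, ⟨_, hyP, rfl⟩, ?_, ?_⟩
  · rintro g hg x ⟨x, hx, rfl⟩
    exact ⟨⟨g, mem_centralizer_singleton_iff.2 hg⟩ * x * ⟨g, mem_centralizer_singleton_iff.2 hg⟩⁻¹,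
      hN.conj_mem x hx _, rfl⟩
  · intro g hg
    have hgy : g * y = y * g := hg y ⟨_, hyP, rfl⟩
    refine ⟨⟨g, mem_centralizer_singleton_iff.2 hgy⟩, h0 ?_, rfl⟩
    rw [mem_centralizer_iff]
    intro x hx
    exact Subtype.ext (hg x ⟨x, hx, rfl⟩).symm

theorem ne_one_of_order {S : Type*} [Group S] {y : S} (hy : orderOf y = p) : y ≠ 1 := by
  rintro rfl
  rw [orderOf_one] at hy
  exact hp.out.one_lt.ne hy

/-- **Numeric criterion.** -/
theorem no_commute {S : Type*} [Group S] [Finite S] (hl : H238.Loc p S) {y z : S} {r a : ℕ} (hy : orderOf y = p)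
    (hr : r.Prime) (hrp : r ≠ p) (hz : orderOf z = r) (hzy : z * y = y * z)
    (ha : ¬ p ^ (a + 1) ∣ Nat.card ↥(centralizer ({y} : Set S))) (hj : ∀ j, 1 ≤ j → j < a → ¬ r ∣ p ^ j - 1) :
    False := by
  obtain ⟨P, hP⟩ := exists_P hl hy
  obtain ⟨m, j, h1, h2, h3, -, h4⟩ := hP.step (ne_one_of_order hy) hr hrp hz hzy
  have h5 : Nat.card P ∣ Nat.card ↥(centralizer ({y} : Set S)) := card_dvd_of_le hP.le
  rw [h3] at h5
  have h6 : m + j < a + 1 := by
    by_contra h7
    exact ha ((pow_dvd_pow p (by omega)).trans h5)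
  exact hj j h2 (by omega) h4

/-- the numeric criterion with the `p`-part of `|S|` -/
theorem no_commute' {S : Type*} [Group S] [Finite S] (hl : H238.Loc p S) {y z : S} {r a : ℕ} (hy : orderOf y = p)
    (hr : r.Prime) (hrp : r ≠ p) (hz : orderOf z = r) (hzy : z * y = y * z)
    (ha : ¬ p ^ (a + 1) ∣ Nat.card S) (hj : ∀ j, 1 ≤ j → j < a → ¬ r ∣ p ^ j - 1) : False :=
  no_commute hl hy hr hrp hz hzy (fun h => ha (h.trans (card_subgroup_dvd_card _))) hj

/-- the numeric criterion for an element whose order is divisible by `p * r` -/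
theorem no_order {S : Type*} [Group S] [Finite S] (hl : H238.Loc p S) {r a : ℕ} (hr : r.Prime) (hrp : r ≠ p)
    (ho : ∃ w : S, p * r ∣ orderOf w) (ha : ¬ p ^ (a + 1) ∣ Nat.card S)
    (hj : ∀ j, 1 ≤ j → j < a → ¬ r ∣ p ^ j - 1) : False := by
  obtain ⟨w, c, hc⟩ := ho
  have hc0 : c ≠ 0 := by
    rintro rfl
    rw [mul_zero] at hc
    exact (orderOf_pos w).ne' hc
  have hw : orderOf (w ^ c) = p * r := by
    rw [orderOf_pow_of_dvd hc0 (by rw [hc]; exact Dvd.intro_left _ rfl), hc, Nat.mul_div_cancel _ (Nat.pos_of_ne_zero hc0)]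
  have h1 : orderOf ((w ^ c) ^ r) = p := by
    rw [orderOf_pow_of_dvd hr.ne_zero (by rw [hw]; exact Dvd.intro_left _ rfl), hw, Nat.mul_div_cancel _ hr.pos]
  have h2 : orderOf ((w ^ c) ^ p) = r := by
    rw [orderOf_pow_of_dvd hp.out.ne_zero (by rw [hw]; exact Dvd.intro _ rfl), hw, Nat.mul_div_cancel_left _ hp.out.pos]
  exact no_commute' hl h1 hr hrp h2 (by rw [← pow_add, ← pow_add, add_comm]) ha hj

/-- **A simple group `H` in `C(y)`.** -/
theorem no_simple {S : Type*} [Group S] [Finite S] (hl : H238.Loc p S) {y : S} {r a n : ℕ} (hy : orderOf y = p)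
    {H : Type*} [Group H] [Finite H] [IsSimpleGroup H] (f : H →* S) (hf : Function.Injective f)
    (hc : ∀ x, f x * y = y * f x) (hr : r.Prime) (hrp : r ≠ p) (hrH : r ∣ Nat.card H)
    (hj : ∀ j, 1 ≤ j → j < a → ¬ r ∣ p ^ j - 1) (hn : Nat.card ↥(centralizer ({y} : Set S)) ∣ n)
    (ha : ¬ p ^ (a + 1) * Nat.card H ∣ n) : False := by
  obtain ⟨P, hP⟩ := exists_P hl hy
  have : Fact r.Prime := ⟨hr⟩
  obtain ⟨x, hx⟩ := exists_prime_orderOf_dvd_card' (G := H) r hrH
  obtain ⟨m, j, h1, h2, h3, -, h4⟩ := hP.step (ne_one_of_order hy) (r := r) (z := f x) hr hrp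
    (by rw [orderOf_injective f hf, hx]) (hc x)
  have h5 : a ≤ j := by
    by_contra h6
    exact hj j h2 (by omega) h4
  have h7 := hP.mul_dvd f hf hc hr hrp hrH
  rw [h3] at h7
  exact ha ((mul_dvd_mul (pow_dvd_pow p (by omega)) dvd_rfl).trans (h7.trans hn))

/-- **`p = 3`, the Sylow 3-subgroup would be `O_3(C(y))` of exponent 3.** -/
theorem no_nine [hp3 : Fact (Nat.Prime 3)] {S : Type*} [Group S] [Finite S] (hl : H238.Loc 3 S) {x y z : S} {r a : ℕ}
    (hy : orderOf y = 3) (hr : r.Prime) (hrp : r ≠ 3) (hz : orderOf z = r) (hzy : z * y = y * z)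
    (ha : ¬ 3 ^ (a + 1) ∣ Nat.card S) (hj : ∀ j, 1 ≤ j → j + 1 < a → ¬ r ∣ 3 ^ j - 1) (h3 : 3 ≤ a)
    (hx : orderOf x = 9) : False := by
  obtain ⟨P, hP⟩ := exists_P hl hy
  obtain ⟨m, j, h1, h2, h3', h4, h5⟩ := hP.step (ne_one_of_order hy) hr hrp hz hzy
  have h6 : m + j < a + 1 := by
    by_contra h7
    apply ha
    refine (pow_dvd_pow 3 (show a + 1 ≤ m + j by omega)).trans ?_
    rw [← h3']
    exact card_subgroup_dvd_card _
  have h7 : ¬ j + 1 < a := fun h => hj j h2 h h5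
  obtain rfl : m = 1 := by omega
  obtain rfl : a = 1 + j := by omega
  rw [pow_one] at h4
  have D : H978.NB.Thr P y z r (1 + j) := ⟨h3', hy, hP.mem, fun x hx => mem_centralizer_singleton_iff.1 (hP.le hx),
    hP.norm z hzy, hr, hrp, hz, hzy, h4, hj, h3⟩
  have hs : 3 ^ (1 + j) = 3 ^ (Nat.card S).factorization 3 := by
    congr 1
    have h4 : 3 ^ (1 + j) ∣ Nat.card S := by rw [← h3']; exact card_subgroup_dvd_card _
    have h5 := (hp3.out.pow_dvd_iff_le_factorization Nat.card_pos.ne').1 h4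
    have h6 : ¬ 1 + j + 1 ≤ (Nat.card S).factorization 3 := fun h => ha
      ((hp3.out.pow_dvd_iff_le_factorization Nat.card_pos.ne').2 h)
    omega
  let Q : Sylow 3 S := Sylow.ofCard P (by rw [h3', hs])
  have hxg : IsPGroup 3 (zpowers x) := IsPGroup.of_card (n := 2) (by rw [Nat.card_zpowers, hx]; norm_num)
  obtain ⟨Q', hQ'⟩ := hxg.exists_le_sylow
  obtain ⟨g, hg⟩ := MulAction.exists_smul_eq S Q' Q
  have h4 : g * x * g⁻¹ ∈ P := by
    have h5 := Subgroup.smul_mem_pointwise_smul x (MulAut.conj g) (Q' : Subgroup S) (hQ' (mem_zpowers x))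
    rw [← Sylow.coe_subgroup_smul, hg] at h5
    exact h5
  have h5 := D.exponent h4
  rw [conj_pow, mul_inv_eq_one, mul_eq_left] at h5
  have h6 := orderOf_dvd_of_pow_eq_one h5
  rw [hx] at h6
  norm_num at h6

end Cfsg.Agent.H182.LP
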