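import Cfsg.Agent.Nodes.RGDChev
import Cfsg.Agent.S1092
import Cfsg.Agent.S1093

/-!
# Chains of roots (helper182, piece (X) of S3046)

`chain_or` : for each of the seven types and each odd prime `p`, either there are `s₀, …, s_p` such that all differences
`s_j - s_i`, `i < j`, are roots, or `p` does not divide the order of the Weyl group.
-/

set_option autoImplicit false
set_option maxRecDepth 100000

namespace Cfsg.Agent.H182.LP

open CoxeterSystem Cfsg Cfsg.Lie Cfsg.Lie.ChevalleyDatum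
open Cfsg.Agent.ChevalleyStructure Cfsg.Agent.ChevalleyStructure.Elts Cfsg.Agent.ChevalleyStructure.CoxeterGeom
  Cfsg.Agent.ChevalleyStructure.CoxeterGeomTypes Cfsg.Agent.ChevalleyStructure.RootVec
open Cfsg.Agent.Tits.Roots Cfsg.Agent.Tits.Core Cfsg.Agent.Nodes Cfsg.Agent.Nodes.RGDChev

/-- the table `T` gives the indices of the differences of the vectors in `S` -/
def okChain (D : ChevalleyDatum) (l n : ℕ) (S : List (List ℤ)) (T : List (List ℕ)) : Bool :=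
  decide (∀ i < n + 1, ∀ j < n + 1, i < j → (T.getD i []).getD j 0 < D.nroots ∧
    ∀ x < l, rt D ((T.getD i []).getD j 0) x = (S.getD j []).getD x 0 - (S.getD i []).getD x 0)

theorem exists_chain {D : ChevalleyDatum} {l : ℕ} {M : CoxeterMatrix (Fin l)} (hp : IsType D l M) {n : ℕ}
    {S : List (List ℤ)} {T : List (List ℕ)} (h : okChain D l n S T = true) {p : ℕ} (hpn : p ≤ n) :
    ∃ s : ℕ → (Fin l → ℤ), ∀ i j, i < j → j ≤ p → IsRoot M.toCoxeterSystem hp.isCartan (s j - s i) := by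
  unfold okChain at h
  rw [decide_eq_true_eq] at h
  refine ⟨fun j x => (S.getD j []).getD x 0, fun i j hij hj => ?_⟩
  obtain ⟨h1, h2⟩ := h i (by omega) j (by omega) hij
  refine (isRoot_iff hp _ _).2 ⟨_, h1, ?_⟩
  funext x
  rw [vec_apply, h2 x x.2, Pi.sub_apply]

theorem dvd_two_three {p a b : ℕ} (hp : p.Prime) (hp2 : p ≠ 2) (h : p ∣ 2 ^ a * 3 ^ b) : p ≤ 3 := by
  rcases hp.dvd_mul.1 h with h | h
  · exact absurd ((Nat.prime_dvd_prime_iff_eq hp Nat.prime_two).1 (hp.dvd_of_dvd_pow h)) hp2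
  · exact ((Nat.prime_dvd_prime_iff_eq hp Nat.prime_three).1 (hp.dvd_of_dvd_pow h)).le

theorem dvd_two_three_five {p a b c : ℕ} (hp : p.Prime) (hp2 : p ≠ 2) (h : p ∣ 2 ^ a * 3 ^ b * 5 ^ c) : p ≤ 5 := by
  rcases hp.dvd_mul.1 h with h | h
  · exact (dvd_two_three hp hp2 h).trans (by norm_num)
  · exact ((Nat.prime_dvd_prime_iff_eq hp Nat.prime_five).1 (hp.dvd_of_dvd_pow h)).le

theorem dvd_to_seven {p a b c d : ℕ} (hp : p.Prime) (hp2 : p ≠ 2) (h : p ∣ 2 ^ a * 3 ^ b * 5 ^ c * 7 ^ d) : p ≤ 7 := by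
  rcases hp.dvd_mul.1 h with h | h
  · exact (dvd_two_three_five hp hp2 h).trans (by norm_num)
  · exact ((Nat.prime_dvd_prime_iff_eq hp (by norm_num)).1 (hp.dvd_of_dvd_pow h)).le

theorem ok_G2 : okChain chevG2 2 3
        [[0, 0], [0, 1], [1, 1], [3, 2]]
        [[0, 6, 8, 11], [0, 0, 7, 10], [0, 0, 0, 9], [0, 0, 0, 0]] = true := by decide +kernel

theorem ok_D4 : okChain chevD4 4 3
        [[0, 0, 0, 0], [0, 0, 0, 1], [0, 1, 0, 1], [0, 1, 1, 1]]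
        [[0, 12, 15, 17], [0, 0, 14, 16], [0, 0, 0, 13], [0, 0, 0, 0]] = true := by decide +kernel

theorem ok_F4 : okChain chevF4 4 3
        [[0, 0, 0, 0], [0, 0, 0, 1], [0, 0, 1, 1], [0, 1, 1, 1]]
        [[0, 24, 26, 29], [0, 0, 25, 28], [0, 0, 0, 27], [0, 0, 0, 0]] = true := by decide +kernel

theorem ok_E6 : okChain chevE6 6 5
        [[0, 0, 0, 0, 0, 0], [0, 0, 0, 0, 0, 1], [0, 0, 0, 0, 1, 1], [0, 0, 0, 1, 1, 1], [0, 0, 1, 1, 1, 1],
    [1, 0, 1, 1, 1, 1]]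
        [[0, 36, 38, 41, 45, 60], [0, 0, 37, 40, 44, 59], [0, 0, 0, 39, 43, 58], [0, 0, 0, 0, 42, 57], [0, 0,
    0, 0, 0, 56], [0, 0, 0, 0, 0, 0]] = true := by decide +kernel

theorem ok_E7 : okChain chevE7 7 7
        [[0, 0, 0, 0, 0, 0, 0], [0, 0, 0, 0, 0, 0, 1], [0, 0, 0, 0, 0, 1, 1], [0, 0, 0, 0, 1, 1, 1], [0, 0, 0,
    1, 1, 1, 1], [0, 0, 1, 1, 1, 1, 1], [1, 0, 1, 1, 1, 1, 1], [-1, -2, -2, -3, -2, -1, 0]]
        [[0, 63, 65, 68, 72, 77, 98, 6], [0, 0, 64, 67, 71, 76, 97, 5], [0, 0, 0, 66, 70, 75, 96, 4], [0, 0,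
    0, 0, 69, 74, 95, 3], [0, 0, 0, 0, 0, 73, 94, 2], [0, 0, 0, 0, 0, 0, 93, 1], [0, 0, 0, 0, 0, 0, 0, 0], [0,
    0, 0, 0, 0, 0, 0, 0]] = true := by decide +kernel

theorem ok_E8 : okChain chevE8 8 7
        [[0, 0, 0, 0, 0, 0, 0, 0], [0, 0, 0, 0, 0, 0, 0, 1], [0, 0, 0, 0, 0, 0, 1, 1], [0, 0, 0, 0, 0, 1, 1,
    1], [0, 0, 0, 0, 1, 1, 1, 1], [0, 0, 0, 1, 1, 1, 1, 1], [0, 0, 1, 1, 1, 1, 1, 1], [1, 0, 1, 1, 1, 1, 1,
    1]]
        [[0, 120, 122, 125, 129, 134, 140, 168], [0, 0, 121, 124, 128, 133, 139, 167], [0, 0, 0, 123, 127,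
    132, 138, 166], [0, 0, 0, 0, 126, 131, 137, 165], [0, 0, 0, 0, 0, 130, 136, 164], [0, 0, 0, 0, 0, 0, 135,
    163], [0, 0, 0, 0, 0, 0, 0, 162], [0, 0, 0, 0, 0, 0, 0, 0]] = true := by decide +kernel

/-- **Chains of roots.** -/
theorem chain_or {D : ChevalleyDatum} {l : ℕ} {M : CoxeterMatrix (Fin l)} (hp : IsType D l M) {p : ℕ} (hpp : p.Prime)
    (hp2 : p ≠ 2) :
    (∃ s : ℕ → (Fin l → ℤ), ∀ i j, i < j → j ≤ p → IsRoot M.toCoxeterSystem hp.isCartan (s j - s i)) ∨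
      ¬ p ∣ Nat.card M.Group := by
  by_cases hd : p ∣ Nat.card M.Group
  swap
  · exact Or.inr hd
  left
  have hp' := hp
  simp only [IsType, typeList, List.mem_cons, List.not_mem_nil, or_false, Prod.mk.injEq] at hp'
  rcases hp' with ⟨rfl, e⟩ | ⟨rfl, e⟩ | ⟨rfl, e⟩ | ⟨rfl, e⟩ | ⟨rfl, e⟩ | ⟨rfl, e⟩ | ⟨rfl, e⟩
  · cases e
    have hc : Nat.card CoxeterMatrix.G₂.Group = 12 := S1092.result (⟨2, CoxeterMatrix.G₂⟩, 12) (by simp)
    rw [hc, show 12 = 2 ^ 2 * 3 ^ 1 by norm_num] at hd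
    exact exists_chain hp ok_G2 (dvd_two_three hpp hp2 hd)
  · cases e
    exfalso
    have hc : Nat.card (CoxeterMatrix.B 2).Group = 8 := S1092.result (⟨2, CoxeterMatrix.B 2⟩, 8) (by simp)
    rw [hc, show 8 = 2 ^ 3 by norm_num] at hd
    exact hp2 ((Nat.prime_dvd_prime_iff_eq hpp Nat.prime_two).1 (hpp.dvd_of_dvd_pow hd))
  · cases e
    have hc : Nat.card coxeterD4.Group = 192 := S1092.result (⟨4, coxeterD4⟩, 192) (by simp)
    rw [hc, show 192 = 2 ^ 6 * 3 ^ 1 by norm_num] at hd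
    exact exists_chain hp ok_D4 (dvd_two_three hpp hp2 hd)
  · cases e
    have hc : Nat.card CoxeterMatrix.F₄.Group = 1152 := S1092.result (⟨4, CoxeterMatrix.F₄⟩, 1152) (by simp)
    rw [hc, show 1152 = 2 ^ 7 * 3 ^ 2 by norm_num] at hd
    exact exists_chain hp ok_F4 (dvd_two_three hpp hp2 hd)
  · cases e
    have hc : Nat.card CoxeterMatrix.E₆.Group = 51840 := S1093.result (⟨6, CoxeterMatrix.E₆⟩, 51840) (by simp)
    rw [hc, show 51840 = 2 ^ 7 * 3 ^ 4 * 5 ^ 1 by norm_num] at hd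
    exact exists_chain hp ok_E6 (dvd_two_three_five hpp hp2 hd)
  · cases e
    have hc : Nat.card CoxeterMatrix.E₇.Group = 2903040 := S1093.result (⟨7, CoxeterMatrix.E₇⟩, 2903040) (by simp)
    rw [hc, show 2903040 = 2 ^ 10 * 3 ^ 4 * 5 ^ 1 * 7 ^ 1 by norm_num] at hd
    exact exists_chain hp ok_E7 (dvd_to_seven hpp hp2 hd)
  · cases e
    have hc : Nat.card CoxeterMatrix.E₈.Group = 696729600 := S1093.result (⟨8, CoxeterMatrix.E₈⟩, 696729600) (by simp)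
    rw [hc, show 696729600 = 2 ^ 14 * 3 ^ 5 * 5 ^ 2 * 7 ^ 1 by norm_num] at hd
    exact exists_chain hp ok_E8 (dvd_to_seven hpp hp2 hd)

end Cfsg.Agent.H182.LP
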