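import Cfsg.Agent.H182.LP.Base
import Cfsg.Agent.H182.LP.Chain
import Cfsg.Agent.H238.ExcRow

/-!
# Exceptional groups: elements of order `p` with non-abelian centraliser (helper182, piece (X) of S3046)

Variants of `ExcCore.core_nonempty`, `Amb.main`, `exc_row` of helper238: instead of the hypothesis on an inverting element
only two non-commuting elements of the centraliser of `z` are used.

* `core_nonempty` : `t` toral, `t ^ p = 1`, `x, y ∈ C(t)` do not commute: then `Sx t ≠ ∅`;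
* `main` : `z ∈ K₀`, `Amb r n K₀`;
* `row` : `K` exceptional of characteristic `r ≠ p`, `Loc p K`, non-abelian Sylow `p`-subgroup: then `r = 2`, `q = 2`.
-/

set_option autoImplicit false
set_option linter.unusedSectionVars false

namespace Cfsg.Agent.H182.LP

open CoxeterSystem Cfsg Cfsg.Lie Cfsg.Lie.ChevalleyDatum
open Cfsg.Agent.ChevalleyStructure Cfsg.Agent.ChevalleyStructure.Elts Cfsg.Agent.ChevalleyStructure.CoxeterGeom
  Cfsg.Agent.ChevalleyStructure.CoxeterGeomTypes Cfsg.Agent.ChevalleyStructure.NPerm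
open Cfsg.Agent.Tits.Roots Cfsg.Agent.Tits.Core Cfsg.Agent.Nodes Cfsg.Agent.Nodes.Reps Cfsg.Agent.Nodes.BNOf
  Cfsg.Agent.Nodes.RGDChev Cfsg.Agent.Nodes.Bruhat Cfsg.Agent.Nodes.NormalForm Cfsg.Agent.Nodes.Coroot
open Cfsg.Agent.KFacts.RgdField Cfsg.Agent.KFacts.RgdChevCoord
open Cfsg.Agent.BpExc Cfsg.Agent.BpExc.TorCent Cfsg.Agent.BpExc.TorChev Cfsg.Agent.BpExc.Tow
  Cfsg.Agent.BpExc.TowChev Cfsg.Agent.BpExc.Fr Cfsg.Agent.BpExc.Pair Cfsg.Agent.BpExc.LangFr Cfsg.Agent.GpExc.Field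
  Cfsg.Agent.BpExc.NInst Cfsg.Agent.BpExc.Asm Cfsg.Agent.BpExc.RowsUntw Cfsg.Agent.BpExc.FamField
open Cfsg.Agent.H238 (Amb Loc)
open Cfsg.Agent.H239.CharPLocal (CP)
open scoped commutatorElement

universe u v

section Core

variable {D : ChevalleyDatum} {l : ℕ} {M : CoxeterMatrix (Fin l)} (hp : IsType D l M) {k : Type u} [Field k]
  {W : Type*} [Group W] (cs : CoxeterSystem M W)

include hp cs

/-- **The centraliser of `t` is not a torus.** -/
theorem core_nonempty (hk : LocFin k) {r : ℕ} [Fact r.Prime] [CharP k r] {p : ℕ} (hpp : p.Prime)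
    (hch : (∃ s : ℕ → (Fin l → ℤ), ∀ i j, i < j → j ≤ p → IsRoot cs hp.isCartan (s j - s i)) ∨ ¬ p ∣ Nat.card W)
    {t : ↥(D.group k)} (ht : t ∈ TT D k) (htp : t ^ p = 1) {x y : ↥(D.group k)}
    (hx : x * t = t * x) (hy : y * t = t * y) (hxy : ¬ Commute x y) :
    (Sx cs hp.isCartan (ch hp) t).Nonempty := by
  by_contra hemp
  rw [Set.not_nonempty_iff_eq_empty] at hemp
  have := finite_W hp cs
  have H := tow (k := k) hp cs hk r
  have C := coordsL (k := k) hp cs hk r
  have hA := chAddL (k := k) hp cs hk r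
  have hG := GG_eq_top (k := k) hp cs hk
  have hTL := TL_eq (k := k) hp hk
  have hXL := XL_eq (k := k) hp hk
  have hTc := TT_comm (K := k) hp
  have C' : Coords cs hp.isCartan (TL (Tj hp (k := k))) (nc hp k) (XL (Xj hp (k := k))) (xc hp) (ch hp) := by
    rw [hTL, hXL]; exact C
  have ht' : t ∈ TL (Tj hp (k := k)) := by rw [hTL]; exact ht
  have hchi : ∀ a, IsRoot cs hp.isCartan a → ch hp a t ^ p = 1 := by
    intro a ha
    have h0 : ch hp a (1 : ↥(D.group k)) = 1 := by
      have h1 := (C.coord a ha).chi_mul (one_mem (TT D k)) (one_mem _)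
      rw [mul_one] at h1
      exact (mul_eq_left₀ ((C.coord a ha).chi_ne_zero (one_mem _))).1 h1.symm
    have h1 : ∀ m : ℕ, ch hp a (t ^ m) = ch hp a t ^ m := by
      intro m
      induction m with
      | zero => rw [pow_zero, pow_zero, h0]
      | succ m ih => rw [pow_succ, pow_succ, (C.coord a ha).chi_mul (pow_mem ht m) ht, ih]
    rw [← h1, htp, h0]
  rcases hch with ⟨s, hs⟩ | hW
  · -- pigeonhole
    obtain ⟨φ, h0, hadd, hφ⟩ := hA t ht
    have hne : ∀ i j, i < j → j ≤ p → φ (s j - s i) ≠ 1 := by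
      intro i j hij hj h1
      have h2 : s j - s i ∈ Sx cs hp.isCartan (ch hp) t := ⟨hs i j hij hj, by rw [hφ _ (hs i j hij hj), h1]⟩
      rw [hemp] at h2
      exact h2
    have hroot : ∀ j, j ≤ p → φ (s j - s 0) ^ p = 1 := by
      intro j hj
      rcases Nat.eq_zero_or_pos j with rfl | hj0
      · rw [sub_self, h0, one_pow]
      · rw [← hφ _ (hs 0 j hj0 hj)]
        exact hchi _ (hs 0 j hj0 hj)
    have hφne : ∀ j, j ≤ p → φ (s j - s 0) ≠ 0 := by
      intro j hj h1
      have h2 := hroot j hj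
      rw [h1, zero_pow hpp.ne_zero] at h2
      exact zero_ne_one h2
    have hinj : ∀ i j, i < j → j ≤ p → φ (s i - s 0) ≠ φ (s j - s 0) := by
      intro i j hij hj h1
      apply hne i j hij hj
      have h2 : s j - s 0 = (s j - s i) + (s i - s 0) := by abel
      rw [h2, hadd] at h1
      have h3 := hφne i (by omega)
      exact (mul_eq_right₀ h3).1 h1.symm
    classical
    have h1 : (Finset.range (p + 1)).image (fun j => φ (s j - s 0)) ⊆ (Polynomial.nthRoots p (1 : k)).toFinset := by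
      intro c hc
      obtain ⟨j, hj, rfl⟩ := Finset.mem_image.1 hc
      rw [Multiset.mem_toFinset, Polynomial.mem_nthRoots hpp.pos]
      exact hroot j (by have := Finset.mem_range.1 hj; omega)
    have h2 := Finset.card_le_card h1
    rw [Finset.card_image_of_injOn, Finset.card_range] at h2
    · have h3 := (Multiset.toFinset_card_le _).trans (Polynomial.card_nthRoots p (1 : k))
      omega
    · intro i hi j hj hij
      have hi' := Finset.mem_range.1 hi
      have hj' := Finset.mem_range.1 hj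
      rcases lt_trichotomy i j with h | h | h
      · exact absurd hij (hinj i j h (by omega))
      · exact h
      · exact absurd hij.symm (hinj j i h (by omega))
  · -- `PP t = 1`
    have hMM : MM cs hp.isCartan (XL (Xj hp (k := k))) (ch hp) t = ⊥ := by
      unfold MM
      rw [hemp, eq_bot_iff]
      exact RGD.Sup_le fun a ha => absurd ha (Set.notMem_empty a)
    have hP := isPGroup_PP (cs := cs) (h := hp.isCartan) hA ht hpp hchi
    have hP1 : ∀ w ∈ PP cs hp.isCartan (ch hp) t, w = 1 := by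
      intro w hw
      obtain ⟨j, hj⟩ := hP ⟨w, hw⟩
      have hj' : w ^ p ^ j = 1 := congrArg Subtype.val hj
      have h1 : orderOf w ∣ p ^ j := orderOf_dvd_of_pow_eq_one hj'
      have h2 : orderOf w ∣ Nat.card W := orderOf_dvd_natCard w
      have h3 : Nat.Coprime (p ^ j) (Nat.card W) := Nat.Coprime.pow_left _ ((Nat.Prime.coprime_iff_not_dvd hpp).2 hW)
      exact orderOf_eq_one_iff.1 (Nat.eq_one_of_dvd_coprimes h3 h1 h2)
    have hform : ∀ c : ↥(D.group k), c * t = t * c → c ∈ TT D k := by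
      intro c hc
      obtain ⟨m, hm, w, kk, hkk, hkt, rfl⟩ := Fr.exists_form H C' ht' ht' (c := c)
        (by rw [hG]; exact Subgroup.mem_top _) hc
      rw [hMM, Subgroup.mem_bot] at hm
      rw [hm, one_mul]
      have hw : w ∈ PP cs hp.isCartan (ch hp) t := ⟨fun a ha => by
          have h1 := C'.chi_rp H.nsys hkk ha ht'
          have h2 : kk * t * kk⁻¹ = t := by rw [hkt]; group
          rwa [h2] at h1, fun a ha => by
          rw [hemp] at ha
          exact absurd ha (Set.notMem_empty a)⟩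
      rw [hP1 w hw] at hkk
      rw [← hTL]
      exact hkk.mem_of_one
    exact hxy (hTc x (hform x hx) y (hform y hy))

end Core

section Main

variable {r n : ℕ} [Fact r.Prime] {K₀ : Type v} [Group K₀] [Finite K₀]

/-- The centraliser of `z` contains an `r`-element, and a perfect group if `4 ≤ r ^ n`. -/
theorem main_amb (hA : Amb r n K₀) {p : ℕ} (hpp : p.Prime) (hp2 : p ≠ 2) (hpr : p ≠ r) {x y z : K₀}
    (hz : orderOf z = p) (hxz : x * z = z * x) (hyz : y * z = z * y) (hxy : ¬ Commute x y) :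
    (∃ u : K₀, u * z = z * u ∧ u ≠ 1 ∧ u ^ r = 1) ∧
    (4 ≤ r ^ n → ∃ H : Subgroup K₀, H ≤ Subgroup.centralizer {z} ∧ ⁅H, H⁆ = H ∧ H ≠ ⊥) := by
  obtain ⟨D, l, M, hp, σ, g, ι, hn, hσ, F, hfin, hι, hfix, hnorm, hsplit⟩ := hA
  have hk : LocFin (AlgebraicClosure (ZMod r)) := locFin_of_isAlgebraic r _
  have hzp : ι z ^ p = 1 := by rw [← map_pow, ← hz, pow_orderOf_eq_one, map_one]
  obtain ⟨z0, hz0⟩ := TorAll.exists_toral' hp r hpp hpr hzp
  obtain ⟨t, c, k', g', ht, hct, hck, hF1, hF2, hF3, hF4⟩ := H238.exists_pair_conj hp M.toCoxeterSystem hk hn hσ F (hfix z)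
    (z := z0⁻¹) (by rwa [inv_inv])
  -- conjugation by `c`
  let f : K₀ →* ↥(D.group (AlgebraicClosure (ZMod r))) := (MulAut.conj c⁻¹).toMonoidHom.comp ι
  have hfa : ∀ a, f a = c⁻¹ * ι a * c := by
    intro a
    show c⁻¹ * ι a * c⁻¹⁻¹ = _
    rw [inv_inv]
  have hfi : Function.Injective f := (MulAut.conj c⁻¹).injective.comp hι
  have hfz : f z = t := by rw [hfa, hct]
  have hcom : ∀ a, a * z = z * a → f a * t = t * f a := by
    intro a ha
    rw [← hfz, ← map_mul, ha, map_mul]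
  have htp : t ^ p = 1 := by
    rw [← hfz, ← map_pow, ← hz, pow_orderOf_eq_one, map_one]
  have hne := core_nonempty hp M.toCoxeterSystem hk (r := r) hpp (chain_or hp hpp hp2) ht htp (x := f x) (y := f y)
    (hcom x hxz) (hcom y hyz) (fun hc => hxy (hfi (by rw [map_mul, map_mul]; exact hc.eq)))
  -- back to `K₀`
  have hback : ∀ u ∈ fixC (MulAut.conj k' * σ) t, σ (c * u * c⁻¹) = c * u * c⁻¹ ∧
      (c * u * c⁻¹) * ι z = ι z * (c * u * c⁻¹) := by
    intro u hu
    exact mem_fixC.1 ((fixEquiv hct hck ⟨u, hu⟩).2)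
  constructor
  · obtain ⟨u, hu, hu1, hur⟩ := H238.ExcCore.core_one hp M.toCoxeterSystem hk hn ht hF1 hF2 hF3 hF4 hne
    obtain ⟨h1, h2⟩ := hback u hu
    obtain ⟨a, s, hs, e⟩ := hsplit _ h1
    have hσs : σ s = s := by
      have h3 := h1
      rw [e, map_mul, hfix] at h3
      exact mul_left_cancel h3
    have hfs : IsOfFinOrder s := by
      have h3 : IsOfFinOrder (⟨s, hσs⟩ : ↥(fixedSubgroup σ)) := isOfFinOrder_of_finite _
      exact (fixedSubgroup σ).subtype.isOfFinOrder h3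
    obtain ⟨m, hm, hm1⟩ := RowsN.exists_coprime hp.inList hs hfs
    have h4 : (c * u * c⁻¹) ^ m ∈ ι.range := by
      rw [e]
      refine RowsN.pow_mem_of_split (N := ι.range) ⟨a, rfl⟩ ?_ hm1
      rintro _ ⟨b, rfl⟩
      obtain ⟨b', hb'⟩ := hnorm s hσs b
      exact ⟨b', hb'.symm⟩
    have h5 : (c * u * c⁻¹) ^ r = 1 := by
      rw [conj_pow, hur, mul_one, mul_inv_cancel]
    have h6 : (c * u * c⁻¹) ∈ ι.range := H238.zpow_gcd hm h4 h5
    obtain ⟨b, hb⟩ := h6
    refine ⟨b, hι ?_, ?_, hι ?_⟩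
    · rw [map_mul, map_mul, hb, h2]
    · rintro rfl
      apply hu1
      rw [map_one] at hb
      exact conj_eq_one_iff.1 hb.symm
    · rw [map_pow, hb, h5, map_one]
  · intro h4
    obtain ⟨H, hH1, hH2, hH3⟩ := H238.ExcCore.core_perfect hp M.toCoxeterSystem hk h4 ht hF1 hF2 hF3 hF4 hne
    let H' : Subgroup ↥(D.group (AlgebraicClosure (ZMod r))) := H.map (MulAut.conj c).toMonoidHom
    have hH' : ∀ y ∈ H', σ y = y ∧ y * ι z = ι z * y := by
      rintro _ ⟨u, hu, rfl⟩
      exact hback u (hH1 hu)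
    have hcomm : ∀ y₁ y₂, σ y₁ = y₁ → σ y₂ = y₂ → ⁅y₁, y₂⁆ ∈ ι.range := by
      intro y₁ y₂ h1 h2
      obtain ⟨a, s, hs, e1⟩ := hsplit _ h1
      obtain ⟨b, s', hs', e2⟩ := hsplit _ h2
      have hσs : σ s = s := by
        have h3 := h1
        rw [e1, map_mul, hfix] at h3
        exact mul_left_cancel h3
      have hσs' : σ s' = s' := by
        have h3 := h2
        rw [e2, map_mul, hfix] at h3
        exact mul_left_cancel h3
      have hss : s * s' = s' * s := TT_comm hp s hs s' hs'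
      obtain ⟨b1, hb1⟩ := hnorm s hσs b
      obtain ⟨a1, ha1⟩ := hnorm s' hσs' a
      have e3 : y₁ * y₂ = ι (a * b1) * (s * s') := by
        rw [e1, e2, map_mul]
        exact H238.grp_one hb1
      have e4 : y₂ * y₁ = ι (b * a1) * (s * s') := by
        rw [e1, e2, map_mul, hss]
        exact H238.grp_one ha1
      refine ⟨(a * b1) * (b * a1)⁻¹, ?_⟩
      rw [H238.grp_two e3 e4, map_mul, map_inv]
    have hH'2 : ⁅H', H'⁆ = H' := by rw [← Subgroup.map_commutator, hH2]
    have hle : H' ≤ ι.range := by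
      rw [← hH'2, Subgroup.commutator_le]
      exact fun y₁ h1 y₂ h2 => hcomm y₁ y₂ (hH' _ h1).1 (hH' _ h2).1
    have hmc : (H'.comap ι).map ι = H' := Subgroup.map_comap_eq_self hle
    refine ⟨H'.comap ι, ?_, ?_, ?_⟩
    · intro a ha
      rw [Subgroup.mem_centralizer_singleton_iff]
      apply hι
      rw [map_mul, map_mul]
      exact (hH' _ ha).2
    · apply Subgroup.map_injective hι
      rw [Subgroup.map_commutator, hmc, hH'2]
    · intro h0
      rw [h0, Subgroup.map_bot] at hmc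
      apply hH3
      rw [eq_bot_iff]
      intro u hu
      have h5 : c * u * c⁻¹ ∈ H' := ⟨u, hu, rfl⟩
      rw [← hmc, Subgroup.mem_bot] at h5
      rw [Subgroup.mem_bot]
      exact conj_eq_one_iff.1 h5

end Main

section Row

open Subgroup

theorem core_two {K₀ : Type u} [Group K₀] [Finite K₀] {r n : ℕ} [Fact r.Prime]
    (hA : Amb r n K₀) (hs : FixBN.HasSplit r K₀) {p : ℕ} [hpp : Fact p.Prime] (hp2 : p ≠ 2) (hpr : p ≠ r)
    {x y z : K₀} (hz : orderOf z = p) (hc : CP p ↥(centralizer ({z} : Set K₀))) (hxz : x * z = z * x)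
    (hyz : y * z = z * y) (hxy : ¬ Commute x y) :
    r = 2 ∧ r ^ n < 4 := by
  obtain ⟨⟨u, hu, hu1, hur⟩, h4⟩ := main_amb hA hpp.out hp2 hpr hz hxz hyz hxy
  have hr2 : r = 2 := by
    by_contra hr2
    refine H238.not_dvd_of_odd hp2 hr2 hpr hs hz hc ?_
    have hmem : u ∈ centralizer ({z} : Set K₀) := mem_centralizer_singleton_iff.2 hu
    have h1 : orderOf u = r := orderOf_eq_prime hur hu1
    have h2 : orderOf (⟨u, hmem⟩ : ↥(centralizer ({z} : Set K₀))) = r := by rw [← h1, Subgroup.orderOf_mk]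
    rw [← h2]
    exact orderOf_dvd_natCard _
  refine ⟨hr2, ?_⟩
  by_contra hlt
  push Not at hlt
  subst hr2
  obtain ⟨H, hH, hp1, hb⟩ := h4 hlt
  have hsol : Group.IsSolvable ↥(centralizer ({z} : Set K₀)) :=
    H238.isSolvable_of_two (fun X _ _ h => Cfsg.Agent.S0205.result h) hp2 hs hz hc
  have : Group.IsSolvable ↥H := Group.isSolvable_of_isSolvable_injective (Subgroup.inclusion_injective hH)
  exact hb (H238.eq_bot_of_perfect_of_isSolvable hp1 this)

/-- a non-abelian Sylow `p`-subgroup has a central element `z` of order `p` -/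
theorem exists_triple {K : Type u} [Group K] [Finite K] {p : ℕ} [hpp : Fact p.Prime] {S : Sylow p K}
    (hna : ¬ IsMulCommutative (S : Subgroup K)) :
    ∃ x y z : K, orderOf z = p ∧ x * z = z * x ∧ y * z = z * y ∧ ¬ Commute x y := by
  obtain ⟨x, y, hxy⟩ : ∃ x y : (S : Subgroup K), x * y ≠ y * x := by
    by_contra h
    push Not at h
    exact hna ⟨⟨h⟩⟩
  have hS : IsPGroup p (S : Subgroup K) := S.isPGroup'
  have hnt : Nontrivial (S : Subgroup K) := ⟨x, y, fun h => hxy (by rw [h])⟩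
  have hZ : Nontrivial (center (S : Subgroup K)) := hS.center_nontrivial
  have hd : p ∣ Nat.card (center (S : Subgroup K)) := by
    obtain ⟨n, hn⟩ := IsPGroup.iff_card.1 (hS.to_subgroup (center (S : Subgroup K)))
    rcases Nat.eq_zero_or_pos n with rfl | h0
    · rw [pow_zero] at hn
      exact absurd hn (Finite.one_lt_card).ne'
    · rw [hn]
      exact dvd_pow_self p h0.ne'
  obtain ⟨z, hz⟩ := exists_prime_orderOf_dvd_card' p hd
  have hzc := z.2
  rw [mem_center_iff] at hzc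
  refine ⟨x, y, (z : (S : Subgroup K)), ?_, ?_, ?_, ?_⟩
  · rw [Subgroup.orderOf_coe, Subgroup.orderOf_coe, hz]
  · exact congrArg Subtype.val (hzc x)
  · exact congrArg Subtype.val (hzc y)
  · intro h
    exact hxy (Subtype.ext h.eq)

variable {K : Type u} [Group K] [Finite K] {p : ℕ} [hpp : Fact p.Prime]

/-- transport of the core to `K ≃* K₀` -/
theorem core_iso {K₀ : Type} [Group K₀] (e : K ≃* K₀) {r n : ℕ} [Fact r.Prime]
    (hA : Amb r n K₀) (hs : FixBN.HasSplit r K₀) (hp2 : p ≠ 2) (hpr : p ≠ r) (hl : Loc p K) {S : Sylow p K}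
    (hna : ¬ IsMulCommutative (S : Subgroup K)) :
    r = 2 ∧ r ^ n < 4 := by
  have : Finite K₀ := Finite.of_equiv K e.toEquiv
  obtain ⟨x, y, z, hz, hxz, hyz, hxy⟩ := exists_triple hna
  have hz' : orderOf (e z) = p := by rw [← hz]; exact orderOf_injective e.toMonoidHom e.injective z
  exact core_two hA hs hp2 hpr (x := e x) (y := e y) hz' (hl.congr e _ hz') (by rw [← map_mul, hxz, map_mul])
    (by rw [← map_mul, hyz, map_mul]) (fun hc => hxy (e.injective (by rw [map_mul, map_mul]; exact hc.eq)))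

/-- **Exceptional groups**, `p` odd. -/
theorem exc_row {r : ℕ} (hr : r.Prime) (hK : IsExceptionalChevChar r K ∨ IsTwistedE6D4Char r K) (hp2 : p ≠ 2)
    (hpr : p ≠ r) (hl : Loc p K) {S : Sylow p K} (hna : ¬ IsMulCommutative (S : Subgroup K)) :
    r = 2 ∧
    ((∃ (F : Type) (_ : Field F) (_ : Fintype F), Fintype.card F = 2 ∧
      (Nonempty (K ≃* Lie.chevF4.group F) ∨ Nonempty (K ≃* Lie.chevE6.group F) ∨ Nonempty (K ≃* Lie.chevE7.group F) ∨
        Nonempty (K ≃* Lie.chevE8.group F))) ∨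
    (∃ (F : Type) (_ : Field F) (_ : Fintype F), Fintype.card F = 2 ^ 2 ∧ Nonempty (K ≃* Lie.twistedE6 F 2)) ∨
    (∃ (F : Type) (_ : Field F) (_ : Fintype F), Fintype.card F = 2 ^ 3 ∧ Nonempty (K ≃* Lie.twistedD4 F 2))) := by
  have : Fact r.Prime := ⟨hr⟩
  rcases hK with ⟨F, _, _, _, hF⟩ | ⟨F, _, _, _, q, hqq, hF⟩
  · obtain ⟨n, hn0, hn⟩ := exists_card (F := F) (r := r)
    have hcard : Fintype.card F = r ^ n := by rw [← Nat.card_eq_fintype_card]; exact hn
    have key : ∀ {D : ChevalleyDatum} {l : ℕ} {M : CoxeterMatrix (Fin l)},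
        IsType D l M → IsSimpleGroup ↥(D.group F) → Nonempty (K ≃* D.group F) →
        r = 2 ∧ Fintype.card F = 2 := by
      intro D l M hp hs ⟨e⟩
      obtain ⟨h1, h2⟩ := core_iso e (H238.AmbRows.amb_group hp hn0 hn) (RowsN.hasSplit hp F hs) hp2 hpr hl hna
      refine ⟨h1, ?_⟩
      subst h1
      exact H238.pow_lt_four hn0 hcard h2
    rcases hF with ⟨h3, he⟩ | he | he | he | he
    · have h1 := key g2T (S1055.result (RowsUntw.exists_ne h3)).1 he
      omega
    · have h1 := key f4T (S1054.result chevF4 (by simp)).1 he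
      exact ⟨h1.1, Or.inl ⟨F, inferInstance, inferInstance, h1.2, Or.inl he⟩⟩
    · have h1 := key e6T (S1054.result chevE6 (by simp)).1 he
      exact ⟨h1.1, Or.inl ⟨F, inferInstance, inferInstance, h1.2, Or.inr (Or.inl he)⟩⟩
    · have h1 := key e7T (S1054.result chevE7 (by simp)).1 he
      exact ⟨h1.1, Or.inl ⟨F, inferInstance, inferInstance, h1.2, Or.inr (Or.inr (Or.inl he))⟩⟩
    · have h1 := key e8T (S1054.result chevE8 (by simp)).1 he
      exact ⟨h1.1, Or.inl ⟨F, inferInstance, inferInstance, h1.2, Or.inr (Or.inr (Or.inr he))⟩⟩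
  · rcases hF with ⟨hc, ⟨e⟩⟩ | ⟨hc, ⟨e⟩⟩
    · obtain ⟨n, hn0, hn⟩ := RowsAll.exists_pow (r := r) (m := 2) (by norm_num) hqq hc
      obtain ⟨h1, h2⟩ := core_iso e (H238.AmbRows.amb_twE6 (K := F) hn0 hn hc)
        (FixBN.ReeSplit.hasSplit_of_isTwistedE6D4Char ⟨F, inferInstance, inferInstance, inferInstance, q, hqq,
          Or.inl ⟨hc, ⟨MulEquiv.refl _⟩⟩⟩) hp2 hpr hl hna
      subst h1
      have h3 : q = 2 := H238.pow_lt_four hn0 hn h2
      subst h3
      exact ⟨rfl, Or.inr (Or.inl ⟨F, inferInstance, inferInstance, hc, ⟨e⟩⟩)⟩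
    · obtain ⟨n, hn0, hn⟩ := RowsAll.exists_pow (r := r) (m := 3) (by norm_num) hqq hc
      obtain ⟨h1, h2⟩ := core_iso e (H238.AmbRows.amb_twD4 (K := F) hn0 hn hc)
        (FixBN.ReeSplit.hasSplit_of_isTwistedE6D4Char ⟨F, inferInstance, inferInstance, inferInstance, q, hqq,
          Or.inr ⟨hc, ⟨MulEquiv.refl _⟩⟩⟩) hp2 hpr hl hna
      subst h1
      have h3 : q = 2 := H238.pow_lt_four hn0 hn h2
      subst h3
      exact ⟨rfl, Or.inr (Or.inr ⟨F, inferInstance, inferInstance, hc, ⟨e⟩⟩)⟩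

end Row

end Cfsg.Agent.H182.LP
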