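import Cfsg.Agent.H182.LP.Base
import Cfsg.Agent.TypeM.OutLyFin
import Cfsg.Agent.McLLyComp.FactsAutMT
import Cfsg.Agent.H94.NBTh
import Cfsg.Agent.NotCT.Orders

/-!
# Sporadic groups of local characteristic `p`, `p` odd (helper182, piece (X) of S3046)

`Ly` and `Th` are not of local characteristic 3.
-/

set_option autoImplicit false

namespace Cfsg.Agent.H182.LP

open Cfsg Subgroup
open Cfsg.Agent.H238 (Loc)
open Cfsg.Agent.H239.CharPLocal (CP)

universe u

/-- a central extension of a nonabelian simple group is not of characteristic `p` -/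
theorem not_cp_of_quot {p : ℕ} {H S : Type*} [Group H] [Finite H] [Group S] [IsSimpleGroup S]
    (π : H →* S) (hs : Function.Surjective π) (hk : π.ker ≤ center H) (hna : ¬ IsPGroup p S) : ¬ CP p H := by
  intro hc
  have hN := Cfsg.Agent.Lib.Cores.pCore_normal (G := H) p
  have hP : IsPGroup p (pCore p H) := Cfsg.Agent.Lib.Cores.pCore_isPGroup p
  have h1 : ((pCore p H).map π).Normal := hN.map π hs
  have h2 : IsPGroup p ((pCore p H).map π) := hP.map π
  rcases h1.eq_bot_or_eq_top with h3 | h3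
  · have h4 : pCore p H ≤ center H := ((Subgroup.map_eq_bot_iff _).1 h3).trans hk
    have h5 : (⊤ : Subgroup H) ≤ pCore p H := by
      refine le_trans ?_ hc
      intro g _
      rw [mem_centralizer_iff]
      intro x hx
      exact (mem_center_iff.1 (h4 hx) g).symm
    apply hna
    have h6 : IsPGroup p (⊤ : Subgroup H) := hP.to_le h5
    have h7 : IsPGroup p H := h6.of_equiv Subgroup.topEquiv
    exact h7.of_surjective π hs
  · rw [h3] at h2
    exact hna (h2.of_equiv Subgroup.topEquiv)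

theorem not_loc_ly {K : Type u} [Group K] [Finite K] (h : Spor.IsoLy K) : ¬ Loc 3 K := by
  intro hl
  obtain ⟨e'⟩ := h
  have hl' : Loc 3 Spor.Ly := hl.congr e'
  have hfin : Finite Spor.Ly := Cfsg.Agent.Ly.Setup.finite_ly
  have hp : Fact (Nat.Prime 3) := ⟨Nat.prime_three⟩
  have hA0 : Nat.card Cfsg.Agent.Ly.McL.Cent.A0 ≤ 378000 :=
    Cfsg.Agent.Ly.McL.ClassX.card_centralizer_x_le Cfsg.Agent.Ly.T1.card_Hhat
  obtain ⟨h1, h2, h3, h4⟩ := Cfsg.Agent.Ly.McL.Main.main Cfsg.Agent.Ly.Index.data Cfsg.Agent.Ly.Pres.closure_gens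
    Cfsg.Agent.Ly.Setup.card_ly hA0
  have hx := Cfsg.Agent.Ly.McL.Main.order_x' Cfsg.Agent.Ly.Index.data Cfsg.Agent.Ly.Pres.closure_gens
    Cfsg.Agent.Ly.Setup.card_ly
  obtain ⟨L⟩ := TypeM.FactsLy.exists_mt_ly
  obtain ⟨g, h, hgh⟩ := TypeM.OutLyFin.exists_commutator Cfsg.Agent.Ly.Index.data
  obtain ⟨L', htx, h5, h6, L8, hL8⟩ := TypeM.OutLyFin.exists_out_data L hx h1 h2 h3 hgh
  obtain ⟨e⟩ := Cfsg.Agent.McLLyComp.FactsAutMT.iso_mcl L8
  have hcp := hl' _ hx
  have hM : IsSimpleGroup Cfsg.Spor.McL := by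
    have := h3
    exact e.symm.isSimpleGroup
  refine not_cp_of_quot (e.toMonoidHom.comp (QuotientGroup.mk' (center _)))
    (e.surjective.comp (QuotientGroup.mk'_surjective _)) ?_ ?_ hcp
  · intro y hy
    have h7 : e ((QuotientGroup.mk' (center _)) y) = 1 := hy
    rw [map_eq_one_iff _ e.injective] at h7
    exact (QuotientGroup.eq_one_iff y).1 h7
  · intro h7
    have hM' : Finite Cfsg.Spor.McL := Finite.of_equiv _ e.toEquiv
    obtain ⟨n, hn⟩ := IsPGroup.iff_card.1 h7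
    rw [NotCT.Orders.mcl (K := Spor.McL) ⟨MulEquiv.refl _⟩] at hn
    have h8 : 2 ∣ 3 ^ n := by rw [← hn]; norm_num
    have h9 := Nat.prime_two.dvd_of_dvd_pow h8
    norm_num at h9

/-! ### `Th` -/

section

open Cfsg.Agent.Th.Base Cfsg.Agent.Th.Word Cfsg.Agent.Th.RelWords Cfsg.Agent.Th.PermTab
  Cfsg.Agent.Th.KOracle Cfsg.Agent.Th.KPerm Cfsg.Agent.Th.NineAct Cfsg.Agent.Th.CStruct
  Cfsg.Agent.Th.COracleDef Cfsg.Agent.Th.COracleSound
open Cfsg.Agent.KFacts.Th.Mask Cfsg.Agent.KFacts.Th.Struct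
open Cfsg.Agent.CpAutTh.Data Cfsg.Agent.CpAutTh.Alt Cfsg.Agent.CpAutTh.RankOne Cfsg.Agent.CpAutTh.Local
  Cfsg.Agent.CpAutTh.Mid Cfsg.Agent.CpAutTh.ThreePerm Cfsg.Agent.CpAutTh.ThreeE
open Cfsg.Agent.H94.NBC

variable {G : Type u} [Group G] {γ : ℕ → G} (h : Ctx γ)
  (hone : ∀ u : G, orderOf u = 2 → ∃ g : G, g * u * g⁻¹ = γ 1)
include h hone

theorem th_aux [Finite G] (hl : Loc 3 G) : False := by
  have : Fact (Nat.Prime 3) := ⟨Nat.prime_three⟩
  obtain ⟨f, F⟩ := Cfsg.Agent.CpAutTh.Local.exists_epi h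
  have hox : orderOf (ev γ X33) = 3 := by
    have := o33 h F
    rwa [Subgroup.orderOf_mk] at this
  have hc0 : cc γ 0 ∈ E γ := c_mem_E h (Or.inl rfl)
  have hc0a : cc γ 0 * γ 1 = γ 1 * cc γ 0 := (h.Q_comm (E_le h hc0)).symm
  have hcc : cc γ 0 * cc γ 0 = 1 := h.data.cc 0
  have hc1 : cc γ 0 ≠ 1 := by
    intro h1
    have h2 := mask_c h.data 0
    rw [h1] at h2
    exact absurd (unique h.data h2 (mask_one h.data)) (by decide +kernel)
  have hc0ne : cc γ 0 ≠ γ 1 := by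
    intro h1
    have h2 := mask_c h.data 0
    rw [h1] at h2
    exact absurd (unique h.data h2 (mask_a h.data)) (by decide +kernel)
  have hcH : cc γ 0 ∈ centralizer ({ev γ X33} : Set G) := hc0.2
  have haH : γ 1 ∈ centralizer ({ev γ X33} : Set G) :=
    mem_centralizer_singleton_iff.2 (h.mem_C.1 (ev_mem_sub c33)).symm
  have hcent : ∀ R : Subgroup G, IsPGroup 3 R → R ≤ centralizer ({ev γ X33} : Set G) →
      (∀ c ∈ centralizer ({ev γ X33} : Set G), ∀ z ∈ R, c * z * c⁻¹ ∈ R) →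
      ∀ z ∈ R, γ 1 * z = z * γ 1 := by
    intro R hR hRC hRn
    have hodd : Odd (Nat.card R) := by
      obtain ⟨k, hk⟩ := IsPGroup.iff_card.1 hR
      rw [hk]
      exact Odd.pow (by decide)
    refine four_cent (H := centralizer ({ev γ X33} : Set G)) (E := Q0 γ) hodd hRn hRC
      (IsPGroup.of_card (n := 9) (by rw [h.cardQ]; norm_num)) (s := γ 1) (e := cc γ 0) haH hcH h.aa hcc hc0a.symm
      (E_le h hc0) h.a_mem ?_ ?_ ?_
    · intro c _ hcs z hz
      have h1 := h.Q_conj (inv_mem (h.mem_C.2 hcs)) hz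
      rwa [inv_inv] at h1
    · exact th_conj h hone _ hcH (orderOf_eq_prime (by rw [pow_two, hcc]) hc1)
    · refine th_conj h hone _ (mul_mem haH hcH) (orderOf_eq_prime ?_ ?_)
      · rw [pow_two]
        calc γ 1 * cc γ 0 * (γ 1 * cc γ 0) = γ 1 * (cc γ 0 * γ 1) * cc γ 0 := by group
          _ = γ 1 * (γ 1 * cc γ 0) * cc γ 0 := by rw [hc0a]
          _ = (γ 1 * γ 1) * (cc γ 0 * cc γ 0) := by group
          _ = 1 := by rw [h.aa, hcc, one_mul]
      · intro h1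
        apply hc0ne
        calc cc γ 0 = (γ 1 * γ 1) * cc γ 0 := by rw [h.aa, one_mul]
          _ = γ 1 * (γ 1 * cc γ 0) := by group
          _ = γ 1 := by rw [h1, mul_one]
  obtain ⟨P, hP⟩ := exists_P hl hox
  have h1 := hP.self (γ 1) fun z hz => hcent P hP.pg hP.le
    (fun c hc z hz => hP.norm c (mem_centralizer_singleton_iff.1 hc) z hz) z hz
  obtain ⟨k, hk⟩ := hP.pg ⟨γ 1, h1⟩
  have hk' : (γ 1) ^ 3 ^ k = 1 := congrArg Subtype.val hk
  have h2 : orderOf (γ 1) = 2 := orderOf_eq_prime (by rw [pow_two]; exact h.aa) h.a1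
  have h3 := orderOf_dvd_of_pow_eq_one hk'
  rw [h2] at h3
  have h4 := Nat.prime_two.dvd_of_dvd_pow h3
  norm_num at h4

end

theorem not_loc_th {K : Type u} [Group K] [Finite K] (h : Spor.IsoTh K) : ¬ Loc 3 K := by
  intro hl
  obtain ⟨e⟩ := h
  have hl' : Loc 3 Spor.Th := hl.congr e
  have hfin : Finite Spor.Th := Finite.of_equiv K e.toEquiv
  exact th_aux Cfsg.Agent.KFacts.Th.Main.ctx
    (fun u hu => isConj_iff.1 (Cfsg.Agent.MonsterX.ThOneClass.oneClass u (Cfsg.Agent.Th.IndexUpper.gTh 1) hu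
      Cfsg.Agent.MonsterX.ThOneClass.orderOf_a)) hl'

end Cfsg.Agent.H182.LP
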