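import Cfsg.Agent.H182.LP.Base
import Cfsg.Agent.H843.OCSporB

/-!
# `Fi24'` is not of local characteristic 3 (helper182, piece (X) of S3046)

The centraliser of the product of the generators `l`, `k` contains `Ω7(3)` (after `H978.NB.FiTF`, helper978).
-/

set_option autoImplicit false

namespace Cfsg.Agent.H182.LP.FiTF

open Cfsg Subgroup
open Cfsg.Agent.Fischer.Fi24RepDef Cfsg.Agent.Fischer.Fi24Rep Cfsg.Agent.Fischer.Y322 Cfsg.Agent.Fischer.Y322Iso
open Cfsg.Agent.R08.FiTwentyFour (index_commutator odd)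
open Cfsg.Spor (Fi24 Fi24')
open Cfsg.Agent.H238 (Loc)

universe u

theorem phi_mem_comm (x : H8) : Cfsg.Agent.H840.Lk.phi x ∈ commutator Fi24 := by
  let q : H8 →* Fi24 ⧸ commutator Fi24 := (QuotientGroup.mk' (commutator Fi24)).comp Cfsg.Agent.H840.Lk.phi
  have hs := simple_H8
  have hq : q.ker = ⊤ := by
    rcases (inferInstance : q.ker.Normal).eq_bot_or_eq_top with h | h
    · exfalso
      have h1 : Nat.card H8 ∣ Nat.card (Fi24 ⧸ commutator Fi24) := by
        rw [Nat.card_congr (MonoidHom.ofInjective ((MonoidHom.ker_eq_bot_iff q).1 h)).toEquiv]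
        exact card_subgroup_dvd_card _
      have h2 : Nat.card (Fi24 ⧸ commutator Fi24) = 2 := index_commutator
      rw [h2, card_H8] at h1
      revert h1
      norm_num
    · exact h
  have h1 : x ∈ q.ker := by rw [hq]; exact mem_top x
  exact (QuotientGroup.eq_one_iff _).1 h1

theorem mem_lk : gen .l * gen .k ∈ commutator Fi24 :=
  (Subgroup.mul_mem_iff_of_index_two index_commutator).2 (iff_of_false (odd (Cfsg.Agent.H840.Lk.gen_mem .l))
    (odd (Cfsg.Agent.H840.Lk.gen_mem .k)))


theorem not_loc {K : Type u} [Group K] [Finite K] (h : Spor.IsoFi24' K) : ¬ Loc 3 K := by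
  intro hl
  obtain ⟨e⟩ := h
  have hl' : Loc 3 Fi24' := hl.congr e
  have hfin : Finite Fi24' := Finite.of_equiv K e.toEquiv
  have h3 : Fact (Nat.Prime 3) := ⟨Nat.prime_three⟩
  have hs := simple_H8
  have hf : Finite H8 := Nat.finite_of_card_ne_zero (by rw [card_H8]; norm_num)
  let y : Fi24' := ⟨gen .l * gen .k, mem_lk⟩
  have hy : orderOf y = 3 := by
    rw [Subgroup.orderOf_mk, Cfsg.Agent.H843.OCSpor.order_lk]
  let f : H8 →* Fi24' := Cfsg.Agent.H840.Lk.phi.codRestrict (commutator Fi24) phi_mem_comm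
  have hfi : Function.Injective f := fun a b hab => Cfsg.Agent.H840.Lk.phi_injective (congrArg Subtype.val hab)
  have hfc : ∀ x, f x * y = y * f x := by
    intro x
    apply Subtype.ext
    show Cfsg.Agent.H840.Lk.phi x * (gen .l * gen .k) = gen .l * gen .k * Cfsg.Agent.H840.Lk.phi x
    obtain ⟨h1, h2⟩ := Cfsg.Agent.H840.Lk.mem_Clk.1 (Cfsg.Agent.H840.Lk.B8_le_Clk (Cfsg.Agent.H840.Lk.phi_mem x))
    exact (Commute.mul_right h1 h2).eq
  have hC : Nat.card ↥(centralizer ({y} : Set Fi24')) ∣ 3 * 29713078886400 := by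
    have := Cfsg.Agent.H843.OCSpor.finite_fi24
    refine Dvd.dvd.trans ?_ Cfsg.Agent.H843.OCSpor.card_cent_lk_dvd
    rw [← card_map_of_injective (K := centralizer ({y} : Set Fi24')) (Subgroup.subtype_injective (commutator Fi24))]
    refine card_dvd_of_le ?_
    rintro _ ⟨x, hx, rfl⟩
    rw [mem_centralizer_singleton_iff]
    exact congrArg Subtype.val (mem_centralizer_singleton_iff.1 hx)
  refine no_simple hl' (r := 7) (a := 6) hy f hfi hfc (by norm_num) (by norm_num) (by rw [card_H8]; norm_num) ?_ hC ?_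
  · intro j hj1 hj2
    interval_cases j <;> norm_num
  · rw [card_H8]
    norm_num

end Cfsg.Agent.H182.LP.FiTF
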