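import Cfsg.Agent.H182.LP.Base
import Cfsg.Agent.MonsterX.HNFive
import Cfsg.Agent.MonsterX.MainPack
import Cfsg.Agent.MonsterX.InstanceFinal
import Cfsg.Agent.MonsterX.HeM.Main
import Cfsg.Agent.S1701
import Cfsg.Agent.S1695
import Cfsg.Agent.S5535

/-!
# The Monster is not of local characteristic 3, 5, 7 (helper182, piece (X) of S3046)

`3.Fi24'`, `5 × HN`, `7 × He`. `exists_five`, `exists_three` are from `H872.NB.M` (helper872).
-/

set_option autoImplicit false

namespace Cfsg.Agent.H182.LP.M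

open Cfsg Subgroup
open Cfsg.Agent.MonsterX
open Cfsg.Agent.H238 (Loc)

universe u

theorem card_M : Nat.card Spor.Monster = 808017424794512875886459904961710757005754368000000000 :=
  Cfsg.Agent.MonsterP.Equiv.isM.2

theorem finite_M : Finite Spor.Monster := Nat.finite_of_card_ne_zero (by rw [card_M]; norm_num)

/-- commuting elements of orders 5 and 19 -/
theorem exists_five : ∃ x z : Spor.Monster, orderOf x = 5 ∧ orderOf z = 19 ∧ z * x = x * z := by
  obtain ⟨e⟩ : Nonempty (Spor.Monster ≃* ↥Conc.G) := Cfsg.Agent.MonsterP.Equiv.equiv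
  have hfin := finite_M
  obtain ⟨x, hx, K, hK, hHN⟩ := HNFive.five InstanceFinal.pack Instance.mTrans Cfsg.Agent.S1701.result
  have h19 : Fact (Nat.Prime 19) := ⟨by norm_num⟩
  have hcK : Nat.card K = 273030912000000 := hHN.2
  have hfK : Finite K := Nat.finite_of_card_ne_zero (by rw [hcK]; norm_num)
  obtain ⟨z, hz⟩ := exists_prime_orderOf_dvd_card' (G := K) 19 (by rw [hcK]; norm_num)
  have h1 : (z : Conc.G) * x = x * z := mem_centralizer_singleton_iff.1 (hK z.2)
  refine ⟨e.symm x, e.symm (z : Conc.G), ?_, ?_, ?_⟩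
  · exact (MulEquiv.orderOf_eq e.symm x).trans hx
  · exact (MulEquiv.orderOf_eq e.symm _).trans ((Subgroup.orderOf_coe z).trans hz)
  · rw [← map_mul, h1, map_mul]

/-- commuting elements of orders 3 and 29 -/
theorem exists_three : ∃ x z : Spor.Monster, orderOf x = 3 ∧ orderOf z = 29 ∧ z * x = x * z := by
  have hfin := finite_M
  obtain ⟨X, N, hX, hN, ⟨hn, ⟨f⟩⟩, -⟩ := Cfsg.Agent.S5535.result
  have h29 : Fact (Nat.Prime 29) := ⟨by norm_num⟩
  have h3 : Fact (Nat.Prime 3) := ⟨Nat.prime_three⟩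
  have hc : Nat.card ↥(_root_.commutator Cfsg.Spor.Fi24) = 1255205709190661721292800 :=
    Cfsg.Agent.R08.FiTwentyFour.card_commutator
  have hd : 29 ∣ Nat.card N := by
    have h1 : Nat.card ↥(_root_.commutator Cfsg.Spor.Fi24) ∣ Nat.card Cfsg.Spor.Fi24 := card_subgroup_dvd_card _
    rw [hc, ← Nat.card_congr f.toEquiv] at h1
    have h2 : Nat.card (↥N ⧸ X.subgroupOf N) ∣ Nat.card N := card_quotient_dvd_card _
    exact (show 29 ∣ 1255205709190661721292800 by norm_num).trans (h1.trans h2)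
  obtain ⟨z, hz⟩ := exists_prime_orderOf_dvd_card' (G := N) 29 hd
  obtain ⟨x, hx⟩ := exists_prime_orderOf_dvd_card' (G := X) 3 (by rw [hX])
  have hxo : orderOf (x : Spor.Monster) = 3 := by rw [Subgroup.orderOf_coe, hx]
  have hzo : orderOf (z : Spor.Monster) = 29 := by rw [Subgroup.orderOf_coe, hz]
  refine ⟨x, z, hxo, hzo, ?_⟩
  have hXz : zpowers (x : Spor.Monster) = X := by
    refine eq_of_le_of_card_ge (by rw [zpowers_le]; exact x.2) ?_
    rw [Nat.card_zpowers, hxo, hX]
  have hzN : (z : Spor.Monster) ∈ normalizer (X : Set Spor.Monster) := by rw [← hN]; exact z.2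
  have hm : (z : Spor.Monster) * x * (z : Spor.Monster)⁻¹ ∈ zpowers (x : Spor.Monster) := by
    rw [hXz]
    exact (mem_normalizer_iff.1 hzN _).1 x.2
  classical
  have hfo : IsOfFinOrder (x : Spor.Monster) := isOfFinOrder_of_finite _
  obtain ⟨i, hi, hix⟩ : ∃ i < 3, (x : Spor.Monster) ^ i = (z : Spor.Monster) * x * (z : Spor.Monster)⁻¹ := by
    have h1 := hfo.mem_zpowers_iff_mem_range_orderOf.1 hm
    rw [Finset.mem_image, hxo] at h1
    obtain ⟨i, hi, h2⟩ := h1
    exact ⟨i, Finset.mem_range.1 hi, h2⟩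
  generalize (z : Spor.Monster) = w at *
  generalize (x : Spor.Monster) = y at *
  have hy3 : y ^ 3 = 1 := by rw [← hxo, pow_orderOf_eq_one]
  -- `w ^ 2` commutes with `y`
  have h2 : (w * w) * y * (w * w)⁻¹ = y := by
    have h5 : (w * w) * y * (w * w)⁻¹ = y ^ (i * i) := by
      calc (w * w) * y * (w * w)⁻¹ = w * (w * y * w⁻¹) * w⁻¹ := by group
        _ = w * y ^ i * w⁻¹ := by rw [← hix]
        _ = (w * y * w⁻¹) ^ i := by rw [conj_pow]
        _ = (y ^ i) ^ i := by rw [← hix]
        _ = y ^ (i * i) := by rw [← pow_mul]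
    rw [h5]
    interval_cases i
    · exfalso
      have h6 : w * y * w⁻¹ = 1 := by rw [← hix, pow_zero]
      rw [conj_eq_one_iff] at h6
      rw [h6, orderOf_one] at hxo
      norm_num at hxo
    · rw [one_mul, pow_one]
    · rw [show 2 * 2 = 3 + 1 from rfl, pow_succ, hy3, one_mul]
  have h4 : Commute (w * w) y := mul_inv_eq_iff_eq_mul.1 h2
  have h5 : (w * w) ^ 15 = w := by
    rw [← pow_two, ← pow_mul]
    have h6 : w ^ 29 = 1 := by rw [← hzo, pow_orderOf_eq_one]
    rw [show 2 * 15 = 29 + 1 from rfl, pow_succ, h6, one_mul]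
  have h6 := h4.pow_left 15
  rw [h5] at h6
  exact h6.eq


/-- commuting elements of orders 7 and 17 -/
theorem exists_seven : ∃ x z : Spor.Monster, orderOf x = 7 ∧ orderOf z = 17 ∧ z * x = x * z := by
  obtain ⟨e⟩ : Nonempty (Spor.Monster ≃* ↥Conc.G) := Cfsg.Agent.MonsterP.Equiv.equiv
  have hfin := finite_M
  obtain ⟨x, hx, K, hK, hHe⟩ := HeM.Main.he_part InstanceFinal.pack Cfsg.Agent.S1695.result
  have h17 : Fact (Nat.Prime 17) := ⟨by norm_num⟩
  have hcK : Nat.card K = 4030387200 := hHe.2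
  have hfK : Finite K := Nat.finite_of_card_ne_zero (by rw [hcK]; norm_num)
  obtain ⟨z, hz⟩ := exists_prime_orderOf_dvd_card' (G := K) 17 (by rw [hcK]; norm_num)
  have h1 : (z : Conc.G) * x = x * z := mem_centralizer_singleton_iff.1 (hK z.2)
  refine ⟨e.symm x, e.symm (z : Conc.G), ?_, ?_, ?_⟩
  · exact (MulEquiv.orderOf_eq e.symm x).trans hx
  · exact (MulEquiv.orderOf_eq e.symm _).trans ((Subgroup.orderOf_coe z).trans hz)
  · rw [← map_mul, h1, map_mul]

theorem not_loc_three {K : Type u} [Group K] [Finite K] (h : Spor.IsoM K) : ¬ Loc 3 K := by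
  intro hl
  obtain ⟨e⟩ := h
  have hfin := finite_M
  have h3 : Fact (Nat.Prime 3) := ⟨Nat.prime_three⟩
  obtain ⟨x, z, hx, hz, hzx⟩ := exists_three
  refine no_commute' (hl.congr e) (r := 29) (a := 20) hx (by norm_num) (by norm_num) hz hzx ?_ ?_
  · rw [card_M]
    norm_num
  · intro j hj1 hj2
    interval_cases j <;> norm_num

theorem not_loc_five {K : Type u} [Group K] [Finite K] (h : Spor.IsoM K) : ¬ Loc 5 K := by
  intro hl
  obtain ⟨e⟩ := h
  have hfin := finite_M
  have h3 : Fact (Nat.Prime 5) := ⟨Nat.prime_five⟩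
  obtain ⟨x, z, hx, hz, hzx⟩ := exists_five
  refine no_commute' (hl.congr e) (r := 19) (a := 9) hx (by norm_num) (by norm_num) hz hzx ?_ ?_
  · rw [card_M]
    norm_num
  · intro j hj1 hj2
    interval_cases j <;> norm_num

theorem not_loc_seven {K : Type u} [Group K] [Finite K] (h : Spor.IsoM K) : ¬ Loc 7 K := by
  intro hl
  obtain ⟨e⟩ := h
  have hfin := finite_M
  have h3 : Fact (Nat.Prime 7) := ⟨by norm_num⟩
  obtain ⟨x, z, hx, hz, hzx⟩ := exists_seven
  refine no_commute' (hl.congr e) (r := 17) (a := 6) hx (by norm_num) (by norm_num) hz hzx ?_ ?_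
  · rw [card_M]
    norm_num
  · intro j hj1 hj2
    interval_cases j <;> norm_num

end Cfsg.Agent.H182.LP.M
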