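import Cfsg.Agent.H182.LP.SporA
import Cfsg.Agent.H182.LP.SporB
import Cfsg.Agent.H182.LP.SporF
import Cfsg.Agent.H182.LP.SporM
import Cfsg.Agent.H240.NotLoc
import Cfsg.Agent.H240.NotLocBFive

/-!
# Sporadic groups of local characteristic `p`, `p` odd (helper182, piece (X) of S3046)

`spor` : a sporadic group of local characteristic `p`, `p` odd, `p ^ 4` dividing the order, is `McL` (`p = 3`) or `Ly`
(`p = 5`). `not_tits`: `p ^ 4` does not divide the order of the Tits group.
-/

set_option autoImplicit false
set_option maxRecDepth 100000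

namespace Cfsg.Agent.H182.LP

open Cfsg Subgroup
open Cfsg.Agent.H238 (Loc)

universe u

theorem prime_cases {p : ℕ} (hp : p.Prime) : ∀ l : List ℕ, (∀ q ∈ l, q.Prime) → p ∣ l.prod → p ∈ l
  | [], _, h => by
    rw [List.prod_nil, Nat.dvd_one] at h
    exact absurd h hp.one_lt.ne'
  | a :: l, hl, h => by
    rw [List.prod_cons] at h
    rcases hp.dvd_mul.1 h with h1 | h1
    · rw [(Nat.prime_dvd_prime_iff_eq hp (hl a List.mem_cons_self)).1 h1]
      exact List.mem_cons_self
    · exact List.mem_cons_of_mem _ (prime_cases hp l (fun q hq => hl q (List.mem_cons_of_mem _ hq)) h1)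

theorem cases4 {p : ℕ} (hp : p.Prime) (hp2 : p ≠ 2) {n : ℕ} (l : List ℕ) (hl : ∀ q ∈ l, q.Prime) (N : ℕ)
    (hn : n ∣ l.prod ^ N) (h4 : p ^ 4 ∣ n) (l' : List ℕ)
    (hf : l.filter (fun q => decide (q ≠ 2) && decide (q ^ 4 ∣ n)) = l') : p ∈ l' := by
  have h1 : p ∈ l := prime_cases hp l hl (hp.dvd_of_dvd_pow (((dvd_pow_self p (by norm_num)).trans h4).trans hn))
  rw [← hf, List.mem_filter]
  exact ⟨h1, by simp [hp2, h4]⟩

variable {K : Type u} [Group K] [Finite K] {p : ℕ} [hp : Fact p.Prime]

/-- **Sporadic groups of local characteristic `p`.** -/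
theorem spor (hp2 : p ≠ 2) (hK : IsSporadicGroup K) (hl : Loc p K) (h4 : p ^ 4 ∣ Nat.card K) :
    (p = 3 ∧ Spor.IsoMcL K) ∨ (p = 5 ∧ Spor.IsoLy K) := by
  rcases hK with h | h | h | h | h | h | h | h | h | h | h | h | h | h | h | h | h | h | h | h | h | h | h | h | h | h
  · exfalso
    rw [NotCT.Orders.m11 h] at h4
    have := cases4 hp.out hp2 [2, 3, 5, 11] (by decide) 10 (by norm_num) h4 [] (by decide +kernel)
    simp at this
  · exfalso
    rw [NotCT.Orders.m12 h] at h4
    have := cases4 hp.out hp2 [2, 3, 5, 11] (by decide) 10 (by norm_num) h4 [] (by decide +kernel)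
    simp at this
  · exfalso
    rw [NotCT.Orders.m22 h] at h4
    have := cases4 hp.out hp2 [2, 3, 5, 7, 11] (by decide) 10 (by norm_num) h4 [] (by decide +kernel)
    simp at this
  · exfalso
    rw [NotCT.Orders.m23 h] at h4
    have := cases4 hp.out hp2 [2, 3, 5, 7, 11, 23] (by decide) 10 (by norm_num) h4 [] (by decide +kernel)
    simp at this
  · exfalso
    rw [NotCT.Orders.m24 h] at h4
    have := cases4 hp.out hp2 [2, 3, 5, 7, 11, 23] (by decide) 10 (by norm_num) h4 [] (by decide +kernel)
    simp at this
  · exfalso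
    rw [NotCT.Orders.j1 h] at h4
    have := cases4 hp.out hp2 [2, 3, 5, 7, 11, 19] (by decide) 10 (by norm_num) h4 [] (by decide +kernel)
    simp at this
  · exfalso
    rw [NotCT.Orders.j2 h] at h4
    have := cases4 hp.out hp2 [2, 3, 5, 7] (by decide) 10 (by norm_num) h4 [] (by decide +kernel)
    simp at this
  · exfalso
    have h5 := h4
    rw [NotCT.Orders.j3 h] at h5
    have := cases4 hp.out hp2 [2, 3, 5, 17, 19] (by decide) 10 (by norm_num) h5 [3] (by decide +kernel)
    simp only [List.mem_singleton] at this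
    subst this
    exact not_loc_j3 h hl
  · exfalso
    rw [NotCT.Orders.j4 h] at h4
    have := cases4 hp.out hp2 [2, 3, 5, 7, 11, 23, 29, 31, 37, 43] (by decide) 21 (by norm_num) h4 []
      (by decide +kernel)
    simp at this
  · exfalso
    have h5 := h4
    rw [NotCT.Orders.co1 h] at h5
    have := cases4 hp.out hp2 [2, 3, 5, 7, 11, 13, 23] (by decide) 21 (by norm_num) h5 [3, 5] (by decide +kernel)
    simp only [List.mem_cons, List.not_mem_nil, or_false] at this
    rcases this with rfl | rfl
    · exact not_loc_co1_three h hl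
    · exact not_loc_co1_five h hl
  · exfalso
    have h5 := h4
    rw [NotCT.Orders.co2 h] at h5
    have := cases4 hp.out hp2 [2, 3, 5, 7, 11, 23] (by decide) 18 (by norm_num) h5 [3] (by decide +kernel)
    simp only [List.mem_singleton] at this
    subst this
    exact H240.NotLoc.not_loc_co2 h hl
  · exfalso
    have h5 := h4
    rw [NotCT.Orders.co3 h] at h5
    have := cases4 hp.out hp2 [2, 3, 5, 7, 11, 23] (by decide) 18 (by norm_num) h5 [3] (by decide +kernel)
    simp only [List.mem_singleton] at this
    subst this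
    exact not_loc_co3 h hl
  · left
    have h5 := h4
    rw [NotCT.Orders.mcl h] at h5
    have := cases4 hp.out hp2 [2, 3, 5, 7, 11] (by decide) 18 (by norm_num) h5 [3] (by decide +kernel)
    simp only [List.mem_singleton] at this
    exact ⟨this, h⟩
  · exfalso
    rw [NotCT.Orders.hs h] at h4
    have := cases4 hp.out hp2 [2, 3, 5, 7, 11] (by decide) 10 (by norm_num) h4 [] (by decide +kernel)
    simp at this
  · exfalso
    have h5 := h4
    rw [NotCT.Orders.suz h] at h5
    have := cases4 hp.out hp2 [2, 3, 5, 7, 11, 13] (by decide) 18 (by norm_num) h5 [3] (by decide +kernel)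
    simp only [List.mem_singleton] at this
    subst this
    exact not_loc_suz h hl
  · exfalso
    rw [NotCT.Orders.he h] at h4
    have := cases4 hp.out hp2 [2, 3, 5, 7, 17] (by decide) 10 (by norm_num) h4 [] (by decide +kernel)
    simp at this
  · exfalso
    rw [NotCT.Orders.ru h] at h4
    have := cases4 hp.out hp2 [2, 3, 5, 7, 13, 29] (by decide) 14 (by norm_num) h4 [] (by decide +kernel)
    simp at this
  · exfalso
    have h5 := h4
    rw [NotCT.Orders.on h] at h5
    have := cases4 hp.out hp2 [2, 3, 5, 7, 11, 19, 31] (by decide) 18 (by norm_num) h5 [3] (by decide +kernel)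
    simp only [List.mem_singleton] at this
    subst this
    exact not_loc_on h hl
  · have h5 := h4
    rw [NotCT.Orders.ly h] at h5
    have := cases4 hp.out hp2 [2, 3, 5, 7, 11, 31, 37, 67] (by decide) 18 (by norm_num) h5 [3, 5] (by decide +kernel)
    simp only [List.mem_cons, List.not_mem_nil, or_false] at this
    rcases this with rfl | rfl
    · exact absurd hl (not_loc_ly h)
    · exact Or.inr ⟨rfl, h⟩
  · exfalso
    have h5 := h4
    rw [NotCT.Orders.fi22 h] at h5
    have := cases4 hp.out hp2 [2, 3, 5, 7, 11, 13] (by decide) 18 (by norm_num) h5 [3] (by decide +kernel)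
    simp only [List.mem_singleton] at this
    subst this
    exact H240.NotLoc.not_loc_fi22 h hl
  · exfalso
    have h5 := h4
    rw [NotCT.Orders.fi23 h] at h5
    have := cases4 hp.out hp2 [2, 3, 5, 7, 11, 13, 17, 23] (by decide) 18 (by norm_num) h5 [3] (by decide +kernel)
    simp only [List.mem_singleton] at this
    subst this
    exact H240.NotLoc.not_loc_fi23 h hl
  · exfalso
    have h5 := h4
    rw [NotCT.Orders.fi24 h] at h5
    have := cases4 hp.out hp2 [2, 3, 5, 7, 11, 13, 17, 23, 29] (by decide) 21 (by norm_num) h5 [3] (by decide +kernel)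
    simp only [List.mem_singleton] at this
    subst this
    exact FiTF.not_loc h hl
  · exfalso
    have h5 := h4
    rw [NotCT.Orders.hn h] at h5
    have := cases4 hp.out hp2 [2, 3, 5, 7, 11, 19] (by decide) 21 (by norm_num) h5 [3, 5] (by decide +kernel)
    simp only [List.mem_cons, List.not_mem_nil, or_false] at this
    rcases this with rfl | rfl
    · exact not_loc_hn_three h hl
    · exact not_loc_hn_five h hl
  · exfalso
    have h5 := h4
    rw [NotCT.Orders.th h] at h5
    have := cases4 hp.out hp2 [2, 3, 5, 7, 13, 19, 31] (by decide) 18 (by norm_num) h5 [3] (by decide +kernel)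
    simp only [List.mem_singleton] at this
    subst this
    exact not_loc_th h hl
  · exfalso
    have h5 := h4
    rw [NotCT.Orders.b h] at h5
    have := cases4 hp.out hp2 [2, 3, 5, 7, 11, 13, 17, 19, 23, 31, 47] (by decide) 41 (by norm_num) h5 [3, 5]
      (by decide +kernel)
    simp only [List.mem_cons, List.not_mem_nil, or_false] at this
    rcases this with rfl | rfl
    · exact H240.NotLoc.not_loc_b h hl
    · exact H240.NotLoc.not_loc_b_five h hl
  · exfalso
    have h5 := h4
    rw [NotCT.Orders.m h] at h5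
    have := cases4 hp.out hp2 [2, 3, 5, 7, 11, 13, 17, 19, 23, 29, 31, 41, 47, 59, 71] (by decide) 46 (by norm_num) h5
      [3, 5, 7] (by decide +kernel)
    simp only [List.mem_cons, List.not_mem_nil, or_false] at this
    rcases this with rfl | rfl | rfl
    · exact M.not_loc_three h hl
    · exact M.not_loc_five h hl
    · exact M.not_loc_seven h hl

/-- the Tits group -/
theorem not_tits (hp2 : p ≠ 2) (h : Lie.IsoTits K) (h4 : p ^ 4 ∣ Nat.card K) : False := by
  rw [NotCT.Orders.tits h] at h4
  have := cases4 hp.out hp2 [2, 3, 5, 13] (by decide) 11 (by norm_num) h4 [] (by decide +kernel)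
  simp at this

end Cfsg.Agent.H182.LP
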