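import Cfsg.Agent.H182.LP.Base
import Cfsg.Agent.CpAutJThree.Row
import Cfsg.Agent.CpAutSuz.ThreeC
import Cfsg.Agent.H474.ONC.End
import Cfsg.Agent.H555.TwoSp.CoThreeSeven
import Cfsg.Agent.H604.Sax.McLEl
import Cfsg.Agent.H493.NB.Co1Three
import Cfsg.Agent.HN.A12Group
import Cfsg.Agent.S1701
import Cfsg.Agent.NotCT.Orders
import Cfsg.Agent.H813.CoSevenMain

/-!
# Sporadic groups of local characteristic `p`, `p` odd (helper182, piece (X) of S3046)

`J3, Suz, O'N, Co3, Co1, HN` are not of local characteristic 3, `HN` is not of local characteristic 5.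
-/

set_option autoImplicit false
set_option maxRecDepth 100000

namespace Cfsg.Agent.H182.LP

open Cfsg Subgroup Equiv
open Cfsg.Agent.H238 (Loc)

universe u

theorem not_loc_j3 {K : Type u} [Group K] [Finite K] (h : Spor.IsoJ3 K) : ¬ Loc 3 K := by
  intro hl
  have f5 : Fact (Nat.Prime 5) := ⟨by norm_num⟩
  have f3 : Fact (Nat.Prime 3) := ⟨by norm_num⟩
  obtain ⟨c, hc3, -, hcC⟩ := CpAutJThree.exc h
  obtain ⟨z, hz⟩ : ∃ z : centralizer ({c} : Set K), orderOf z = 5 :=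
    exists_prime_orderOf_dvd_card' 5 (by rw [hcC]; norm_num)
  refine no_commute hl (r := 5) (a := 3) hc3 Nat.prime_five (by norm_num)
    (z := (z : K)) (by rw [Subgroup.orderOf_coe, hz]) (mem_centralizer_singleton_iff.1 z.2) ?_ ?_
  · rw [hcC]
    norm_num
  · intro j h1 h2
    interval_cases j <;> norm_num

theorem not_loc_suz {K : Type u} [Group K] [Finite K] (h : Spor.IsoSuz K) : ¬ Loc 3 K := by
  intro hl
  obtain ⟨e⟩ := h
  have hl' : Loc 3 Spor.Suz := hl.congr e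
  have hfin : Finite Spor.Suz := Finite.of_equiv K e.toEquiv
  have f5 : Fact (Nat.Prime 5) := ⟨by norm_num⟩
  have f3 : Fact (Nat.Prime 3) := ⟨by norm_num⟩
  obtain ⟨x, hx⟩ := exists_prime_orderOf_dvd_card' (G := PreUniq.Spor.SuzP.E) 3 (by
    rw [PreUniq.Spor.SuzP.card_E]; norm_num)
  have hx3 : orderOf (x : Spor.Suz) = 3 := by rw [Subgroup.orderOf_coe, hx]
  have hc := CpAutSuz.ThreeC.card_centralizer x.2 (by
    intro h1
    rw [h1, orderOf_one] at hx3
    norm_num at hx3)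
  obtain ⟨z, hz⟩ : ∃ z : centralizer ({(x : Spor.Suz)} : Set Spor.Suz), orderOf z = 5 :=
    exists_prime_orderOf_dvd_card' 5 (by rw [hc]; norm_num)
  refine no_commute hl' (r := 5) (a := 4) hx3 Nat.prime_five (by norm_num)
    (z := (z : Spor.Suz)) (by rw [Subgroup.orderOf_coe, hz]) (mem_centralizer_singleton_iff.1 z.2) ?_ ?_
  · rw [hc]
    norm_num
  · intro j h1 h2
    interval_cases j <;> norm_num

theorem not_loc_on {K : Type u} [Group K] [Finite K] (h : Spor.IsoON K) : ¬ Loc 3 K := by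
  intro hl
  have hcK := NotCT.Orders.on h
  obtain ⟨e⟩ := h
  have hl' : Loc 3 Spor.ON := hl.congr e
  have hfin : Finite Spor.ON := Finite.of_equiv K e.toEquiv
  have hcard : Nat.card Spor.ON = 460815505920 := by rw [← hcK]; exact (Nat.card_congr e.toEquiv).symm
  have f5 : Fact (Nat.Prime 5) := ⟨by norm_num⟩
  have f3 : Fact (Nat.Prime 3) := ⟨by norm_num⟩
  obtain ⟨y, hy⟩ := exists_prime_orderOf_dvd_card' (G := Spor.ON) 5 (by rw [hcard]; norm_num)
  obtain ⟨x, hx⟩ := exists_prime_orderOf_dvd_card' (G := ↥(centralizer ({y} : Set Spor.ON))) 3 (by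
    rw [H474.ONC.card_cent_five hy]; norm_num)
  refine no_commute' hl' (r := 5) (a := 4) (y := (x : Spor.ON)) (by rw [Subgroup.orderOf_coe, hx]) Nat.prime_five
    (by norm_num) hy (mem_centralizer_singleton_iff.1 x.2).symm ?_ ?_
  · rw [hcard]
    norm_num
  · intro j h1 h2
    interval_cases j <;> norm_num

theorem exists_three_co3 {T : Type u} [Group T] (h : Spor.IsoCo3 T) [Finite T] {z : T} (hz : orderOf z = 7) :
    ∃ y : T, orderOf y = 3 ∧ z * y = y * z := by
  obtain ⟨k, m, hkm, h1⟩ := Cfsg.Agent.H555.TwoSp.cn7 h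
  have h2 := (h1 (zpowers z) (by rw [Nat.card_zpowers, hz])).1
  have h3 : 3 ∣ Nat.card ↥(centralizer ((zpowers z : Subgroup T) : Set T)) := by
    rw [h2]
    rcases hkm with ⟨rfl, -⟩ | ⟨rfl, -⟩ | ⟨rfl, -⟩ | ⟨rfl, -⟩ <;> norm_num
  have h4 : Fact (Nat.Prime 3) := ⟨Nat.prime_three⟩
  obtain ⟨⟨y, hy⟩, hyo⟩ := exists_prime_orderOf_dvd_card' (G := ↥(centralizer ((zpowers z : Subgroup T) : Set T))) 3 h3
  rw [Subgroup.orderOf_mk] at hyo
  exact ⟨y, hyo, mem_centralizer_iff.1 hy z (mem_zpowers z)⟩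

theorem not_loc_co3 {K : Type u} [Group K] [Finite K] (h : Spor.IsoCo3 K) : ¬ Loc 3 K := by
  intro hl
  have hc : Nat.card K = 495766656000 := NotCT.Orders.co3 h
  have f7 : Fact (Nat.Prime 7) := ⟨by norm_num⟩
  have f3 : Fact (Nat.Prime 3) := ⟨by norm_num⟩
  obtain ⟨e⟩ := h
  have hl' : Loc 3 Spor.Co3 := hl.congr e
  have hfin : Finite Spor.Co3 := Finite.of_equiv K e.toEquiv
  have hc' : Nat.card Spor.Co3 = 495766656000 := by rw [← hc]; exact (Nat.card_congr e.toEquiv).symm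
  obtain ⟨z, hz⟩ := exists_prime_orderOf_dvd_card' (G := Spor.Co3) 7 (by rw [hc']; norm_num)
  obtain ⟨y, hy, hzy⟩ := exists_three_co3 (T := Spor.Co3) ⟨MulEquiv.refl _⟩ hz
  obtain ⟨x, hx⟩ := H604.Sax.McLEl.exists_nine_co3
  refine no_nine hl' (x := x) (r := 7) (a := 7) hy (by norm_num) (by norm_num) hz hzy (by rw [hc']; norm_num) ?_
    (by norm_num) hx
  intro j h1 h3
  have h4 : j < 6 := by omega
  clear h3
  interval_cases j <;> norm_num

theorem not_loc_co1_three {K : Type u} [Group K] [Finite K] (h : Spor.IsoCo1 K) : ¬ Loc 3 K := by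
  intro hl
  have f3 : Fact (Nat.Prime 3) := ⟨by norm_num⟩
  obtain ⟨e⟩ := h
  have hl' : Loc 3 Spor.Co1 := hl.congr e
  have hfin : Finite Spor.Co1 := Finite.of_equiv K e.toEquiv
  obtain ⟨z, hz, hzx⟩ := H493.NB.exists_seven
  refine no_commute hl' (r := 7) (a := 5) LThreeCo1T8.Main.order_x (by norm_num) (by norm_num) hz hzx
    H493.NB.not_dvd_cent ?_
  intro j hj hj5
  interval_cases j <;> norm_num

open Cfsg.Agent.H813.CoSevenMain in
/-- an element of order `35` of `Co1` -/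
theorem exists_35 : ∃ w : Spor.Co1, orderOf w = 35 := by
  have : Fact (Nat.Prime 5) := ⟨by norm_num⟩
  obtain ⟨b, hb⟩ := exists_prime_orderOf_dvd_card' (G := ↥BB) 5 (by rw [card_BB]; norm_num)
  have hb' : orderOf (b : Spor.Co1) = 5 := by rw [Subgroup.orderOf_coe, hb]
  have hpp : orderOf pp = 7 := by
    have : Fact (Nat.Prime 7) := ⟨by norm_num⟩
    exact orderOf_eq_prime pp_pow pp_ne
  have hc : Commute (b : Spor.Co1) pp := mem_centralizer_singleton_iff.1 (BB_le b.2)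
  refine ⟨(b : Spor.Co1) * pp, ?_⟩
  rw [hc.orderOf_mul_eq_mul_orderOf_of_coprime (by rw [hb', hpp]; norm_num), hb', hpp]

theorem not_loc_co1_five {K : Type u} [Group K] [Finite K] (h : Spor.IsoCo1 K) : ¬ Loc 5 K := by
  intro hl
  have hcard := NotCT.Orders.co1 h
  have : Fact (Nat.Prime 5) := ⟨by norm_num⟩
  refine no_order (r := 7) (a := 4) hl (by norm_num) (by norm_num) ?_ (by rw [hcard]; norm_num) ?_
  · obtain ⟨e⟩ := h
    obtain ⟨x, hx⟩ := exists_35
    refine ⟨e.symm x, ?_⟩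
    have h5 : orderOf (e.symm x) = orderOf x := MulEquiv.orderOf_eq e.symm x
    rw [h5, hx]
  · intro j h5 h6
    interval_cases j <;> norm_num

/-! ### `HN` -/

theorem exists_order (σ : Perm (Fin 12)) (n : ℕ) (hn : 0 < n) (hs : Perm.sign σ = 1) (h1 : σ ^ n = 1)
    (h2 : ∀ m < n, 0 < m → m ∣ n → σ ^ m ≠ 1) : ∃ g : alternatingGroup (Fin 12), orderOf g = n := by
  refine ⟨⟨σ, Perm.mem_alternatingGroup.2 hs⟩, ?_⟩
  rw [Subgroup.orderOf_mk]
  have hd : orderOf σ ∣ n := orderOf_dvd_of_pow_eq_one h1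
  by_contra hne
  exact h2 _ (lt_of_le_of_ne (Nat.le_of_dvd hn hd) hne) (orderOf_pos σ) hd (pow_orderOf_eq_one σ)

theorem o21 : ∃ g : alternatingGroup (Fin 12), orderOf g = 21 :=
  exists_order (c[0,1,2,3,4,5,6] * c[7,8,9]) 21
  (by norm_num) (by decide +kernel) (by decide +kernel) (by decide +kernel)

theorem o35 : ∃ g : alternatingGroup (Fin 12), orderOf g = 35 :=
  exists_order (c[0,1,2,3,4,5,6] * c[7,8,9,10,11]) 35
  (by norm_num) (by decide +kernel) (by decide +kernel) (by decide +kernel)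

theorem hn_alt {K : Type u} [Group K] (h : Spor.IsoHN K) {n : ℕ} (ho : ∃ g : alternatingGroup (Fin 12), orderOf g = n) :
    ∃ g : K, orderOf g = n := by
  obtain ⟨e⟩ := h
  have := Cfsg.Agent.S1701.result.1
  obtain ⟨L, ⟨f⟩⟩ := Cfsg.Agent.HN.A12Group.exists_alternating
  obtain ⟨g, hg⟩ := ho
  refine ⟨e.symm ((f.symm g : L) : Spor.HN), ?_⟩
  rw [MulEquiv.orderOf_eq, Subgroup.orderOf_coe, MulEquiv.orderOf_eq, hg]

theorem not_loc_hn_three {K : Type u} [Group K] [Finite K] (h : Spor.IsoHN K) : ¬ Loc 3 K := by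
  intro hl
  have hc : Nat.card K = 273030912000000 := by
    obtain ⟨e⟩ := h
    rw [Nat.card_congr e.toEquiv]
    exact Cfsg.Agent.S1701.result.2
  have f3 : Fact (Nat.Prime 3) := ⟨by norm_num⟩
  obtain ⟨w, hw⟩ := hn_alt h o21
  refine no_order hl (r := 7) (a := 6) (by norm_num) (by norm_num) ⟨w, by rw [hw]⟩ (by rw [hc]; norm_num) ?_
  intro j h1 h2
  interval_cases j <;> norm_num

theorem not_loc_hn_five {K : Type u} [Group K] [Finite K] (h : Spor.IsoHN K) : ¬ Loc 5 K := by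
  intro hl
  have hc : Nat.card K = 273030912000000 := by
    obtain ⟨e⟩ := h
    rw [Nat.card_congr e.toEquiv]
    exact Cfsg.Agent.S1701.result.2
  have f5 : Fact (Nat.Prime 5) := ⟨by norm_num⟩
  obtain ⟨w, hw⟩ := hn_alt h o35
  refine no_order hl (r := 7) (a := 6) (by norm_num) (by norm_num) ⟨w, by rw [hw]⟩ (by rw [hc]; norm_num) ?_
  intro j h1 h2
  interval_cases j <;> norm_num

end Cfsg.Agent.H182.LP
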